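import Cfsg.Agent.Lib.AltFusion.Closed
import Cfsg.Agent.Lib.Perm.AbelianSylow

/-! Blockwise affine permutations. -/

set_option autoImplicit false

namespace CfsgLib.AltFusion

open Equiv
open CfsgLib.SymSylowGen (Pts baseHom liftHom baseHom_pow sign_liftHom)

variable (p : ℕ) [hp : Fact p.Prime] (m r : ℕ)

/-- Permute the blocks and act affinely inside them. -/
def aff (π : Perm (Fin m)) (u : Fin m → (ZMod p)ˣ) (v : Fin m → ZMod p) : Perm (Pts p m r) where
  toFun x := x.elim (fun q => Sum.inl (π q.1, u q.1 * q.2 + v q.1)) Sum.inr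
  invFun x := x.elim (fun q => Sum.inl (π.symm q.1, ↑(u (π.symm q.1))⁻¹ * (q.2 - v (π.symm q.1)))) Sum.inr
  left_inv x := by
    rcases x with ⟨i, a⟩ | j
    · simp only [Sum.elim_inl, Equiv.symm_apply_apply, add_sub_cancel_right, ← mul_assoc, Units.inv_mul, one_mul]
    · rfl
  right_inv x := by
    rcases x with ⟨i, a⟩ | j
    · simp only [Sum.elim_inl, Equiv.apply_symm_apply, ← mul_assoc, Units.mul_inv, one_mul, sub_add_cancel]
    · rfl

variable {p m r}

@[simp] theorem aff_inl (π : Perm (Fin m)) (u : Fin m → (ZMod p)ˣ) (v : Fin m → ZMod p) (i : Fin m) (a : ZMod p) :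
    aff p m r π u v (Sum.inl (i, a)) = Sum.inl (π i, u i * a + v i) := rfl

@[simp] theorem aff_inr (π : Perm (Fin m)) (u : Fin m → (ZMod p)ˣ) (v : Fin m → ZMod p) (j : Fin r) :
    aff p m r π u v (Sum.inr j) = Sum.inr j := rfl

theorem aff_mul (π π' : Perm (Fin m)) (u u' : Fin m → (ZMod p)ˣ) (v v' : Fin m → ZMod p) :
    aff p m r π u v * aff p m r π' u' v' =
      aff p m r (π * π') (fun i => u (π' i) * u' i) (fun i => (u (π' i) : ZMod p) * v' i + v (π' i)) := by
  ext x
  rcases x with ⟨i, a⟩ | j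
  · simp [Perm.mul_apply, mul_add, mul_assoc, add_assoc]
  · simp

theorem baseHom_eq (f : Multiplicative (Fin m → ZMod p)) : baseHom p m r f = aff p m r 1 1 f.toAdd := by
  ext x
  rcases x with ⟨i, a⟩ | j
  · simp [CfsgLib.SymSylowGen.baseHom_inl, add_comm]
  · simp [baseHom]

theorem liftHom_eq (w : Perm (Fin m)) : liftHom p m r w = aff p m r w 1 0 := by
  ext x
  rcases x with ⟨i, a⟩ | j
  · simp [CfsgLib.SymSylowGen.liftHom_inl]
  · simp [liftHom]

theorem aff_one : aff p m r 1 1 0 = 1 := by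
  ext x
  rcases x with ⟨i, a⟩ | j <;> simp

variable (p m r) in
/-- The scalings. -/
def scale : (Fin m → (ZMod p)ˣ) →* Perm (Pts p m r) where
  toFun u := aff p m r 1 u 0
  map_one' := aff_one
  map_mul' u u' := by
    rw [aff_mul, mul_one]
    congr 1
    funext i
    simp

theorem aff_split (π : Perm (Fin m)) (u : Fin m → (ZMod p)ˣ) (v : Fin m → ZMod p) :
    aff p m r π u v = aff p m r π 1 0 * baseHom p m r (Multiplicative.ofAdd v) * scale p m r u := by
  rw [baseHom_eq]
  show _ = _ * _ * aff p m r 1 u 0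
  rw [aff_mul, aff_mul]
  ext x
  rcases x with ⟨i, a⟩ | j <;> simp

theorem aff_mul_base (π : Perm (Fin m)) (u : Fin m → (ZMod p)ˣ) (v : Fin m → ZMod p) (f : Multiplicative (Fin m → ZMod p)) :
    aff p m r π u v * baseHom p m r f =
      baseHom p m r (Multiplicative.ofAdd fun i => (u (π.symm i) : ZMod p) * f.toAdd (π.symm i)) * aff p m r π u v := by
  rw [baseHom_eq, baseHom_eq, aff_mul, aff_mul]
  ext x
  rcases x with ⟨i, a⟩ | j
  · simp [add_comm]
  · simp

omit hp in
/-- A conjugation sending a finite subgroup into itself normalizes it. -/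
theorem mem_normalizer_of_mul {G : Type*} [Group G] {B : Subgroup G} [Finite B] {g : G}
    (h : ∀ b ∈ B, ∃ b' ∈ B, g * b = b' * g) : g ∈ Subgroup.normalizer (B : Set G) := by
  have hsub : ∀ b ∈ B, g * b * g⁻¹ ∈ B := fun b hb => by
    obtain ⟨b', hb', e⟩ := h b hb
    rw [e, mul_inv_cancel_right]
    exact hb'
  refine Subgroup.mem_normalizer_iff.mpr fun b => ⟨hsub b, fun hb => ?_⟩
  have hmap : B.map (MulAut.conj g).toMonoidHom = B := by
    refine Subgroup.eq_of_le_of_card_ge ?_ (by rw [Subgroup.card_map_of_injective (MulAut.conj g).injective])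
    rintro _ ⟨e, he, rfl⟩
    exact hsub e he
  obtain ⟨e, he, he'⟩ := hmap.ge hb
  exact (MulAut.conj g).injective he' ▸ he

theorem aff_mem_normalizer (π : Perm (Fin m)) (u : Fin m → (ZMod p)ˣ) (v : Fin m → ZMod p) :
    aff p m r π u v ∈ Subgroup.normalizer ((baseHom p m r).range : Set (Perm (Pts p m r))) := by
  refine mem_normalizer_of_mul ?_
  rintro _ ⟨f, rfl⟩
  exact ⟨_, ⟨_, rfl⟩, aff_mul_base π u v f⟩

variable (p m r) in
/-- The wreath product of translations with a group of permutations of the blocks. -/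
def wr (W : Subgroup (Perm (Fin m))) : Subgroup (Perm (Pts p m r)) where
  carrier := {g | ∃ π ∈ W, ∃ v, g = aff p m r π 1 v}
  one_mem' := ⟨1, one_mem _, 0, aff_one.symm⟩
  mul_mem' := by
    rintro _ _ ⟨π, hπ, v, rfl⟩ ⟨π', hπ', v', rfl⟩
    exact ⟨π * π', mul_mem hπ hπ', fun i => v' i + v (π' i), by rw [aff_mul]; congr 1 <;> funext i <;> simp⟩
  inv_mem' := by
    rintro _ ⟨π, hπ, v, rfl⟩
    refine ⟨π⁻¹, inv_mem hπ, fun i => - v (π⁻¹ i), inv_eq_of_mul_eq_one_right ?_⟩
    rw [aff_mul, mul_inv_cancel, ← aff_one (p := p) (m := m) (r := r)]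
    congr 1 <;> funext i <;> simp

theorem mem_wr {W : Subgroup (Perm (Fin m))} {g : Perm (Pts p m r)} :
    g ∈ wr p m r W ↔ ∃ π ∈ W, ∃ v, g = aff p m r π 1 v := Iff.rfl

theorem base_mem_wr (W : Subgroup (Perm (Fin m))) (f : Multiplicative (Fin m → ZMod p)) :
    baseHom p m r f ∈ wr p m r W := ⟨1, one_mem _, _, baseHom_eq f⟩

theorem wr_le_normalizer (W : Subgroup (Perm (Fin m))) :
    wr p m r W ≤ Subgroup.normalizer ((baseHom p m r).range : Set (Perm (Pts p m r))) := by
  rintro _ ⟨π, -, v, rfl⟩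
  exact aff_mem_normalizer π 1 v

theorem isPGroup_wr {W : Subgroup (Perm (Fin m))} (hW : IsPGroup p W) : IsPGroup p (wr p m r W) := by
  rintro ⟨g, π, hπ, v, rfl⟩
  have hpow : ∀ k : ℕ, ∃ v', aff p m r π 1 v ^ k = aff p m r (π ^ k) 1 v' := by
    intro k
    induction k with
    | zero => exact ⟨0, by rw [pow_zero, pow_zero, aff_one]⟩
    | succ k ih =>
      obtain ⟨v', hv'⟩ := ih
      refine ⟨fun i => v i + v' (π i), ?_⟩
      rw [pow_succ, hv', aff_mul, ← pow_succ]
      congr 1 <;> funext i <;> simp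
  obtain ⟨k, hk⟩ := hW ⟨π, hπ⟩
  obtain ⟨v', hv'⟩ := hpow (p ^ k)
  refine ⟨k + 1, Subtype.ext ?_⟩
  have hk' : π ^ p ^ k = 1 := congrArg Subtype.val hk
  show aff p m r π 1 v ^ p ^ (k + 1) = 1
  rw [pow_succ, pow_mul, hv', hk', show v' = (Multiplicative.ofAdd v').toAdd from rfl, ← baseHom_eq, baseHom_pow]

theorem aff_injective {π π' : Perm (Fin m)} {u u' : Fin m → (ZMod p)ˣ} {v v' : Fin m → ZMod p}
    (h : aff p m r π u v = aff p m r π' u' v') : π = π' ∧ u = u' ∧ v = v' := by
  have h0 : ∀ i, π i = π' i ∧ v i = v' i := fun i => by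
    simpa using congrArg (fun g : Perm (Pts p m r) => g (Sum.inl (i, 0))) h
  refine ⟨Equiv.ext fun i => (h0 i).1, funext fun i => Units.ext ?_, funext fun i => (h0 i).2⟩
  have h1 := congrArg (fun g : Perm (Pts p m r) => g (Sum.inl (i, 1))) h
  simp only [aff_inl, Sum.inl.injEq, Prod.mk.injEq, mul_one, (h0 i).2, add_left_inj] at h1
  exact h1.2

theorem card_wr_ge (W : Subgroup (Perm (Fin m))) : Nat.card W * p ^ m ≤ Nat.card (wr p m r W) := by
  have h := Nat.card_le_card_of_injective
    (fun x : W × (Fin m → ZMod p) => (⟨aff p m r x.1.1 1 x.2, x.1.1, x.1.2, x.2, rfl⟩ : wr p m r W))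
    (fun a b e => by
      obtain ⟨h1, -, h3⟩ := aff_injective (congrArg Subtype.val e)
      exact Prod.ext (Subtype.ext h1) h3)
  rwa [Nat.card_prod, Nat.card_fun, Nat.card_zmod, Nat.card_fin] at h

/-- The nested group is a Sylow subgroup. -/
theorem card_wr {W : Subgroup (Perm (Fin m))} (hW : IsPGroup p W) (hWc : Nat.card W = p ^ padicValNat p m.factorial)
    {n : ℕ} (hn : n = m * p + r) (hr : r < p) : Nat.card (wr p m r W) = p ^ padicValNat p n.factorial := by
  have hdiv : n / p = m := by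
    rw [hn, Nat.mul_comm, Nat.mul_add_div hp.out.pos, Nat.div_eq_of_lt hr, add_zero]
  have hval : padicValNat p n.factorial = padicValNat p m.factorial + m := by
    rw [← padicValNat_mul_div_factorial n, padicValNat_factorial_mul, hdiv]
  obtain ⟨k, hk⟩ := IsPGroup.iff_card.mp (isPGroup_wr (r := r) hW)
  have hcard : Nat.card (Perm (Pts p m r)) = n.factorial := by
    simp only [Nat.card_perm, Nat.card_eq_fintype_card, Pts, Fintype.card_sum, Fintype.card_prod, Fintype.card_fin,
      Fintype.card_perm, ZMod.card, hn]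
  refine le_antisymm ?_ ?_
  · rw [hk]
    refine Nat.pow_le_pow_right hp.out.pos ((padicValNat_dvd_iff_le n.factorial_ne_zero).1 ?_)
    rw [← hk, ← hcard]
    exact Subgroup.card_subgroup_dvd_card _
  · have h := card_wr_ge (p := p) (r := r) W
    rwa [hWc, ← pow_add, ← hval] at h

/-- An affine permutation normalizes the nested group. -/
theorem aff_mem_normalizer_wr {W : Subgroup (Perm (Fin m))} {π₀ : Perm (Fin m)} {u : Fin m → (ZMod p)ˣ}
    (hπ : π₀ ∈ Subgroup.normalizer (W : Set (Perm (Fin m)))) (hu : ∀ π ∈ W, ∀ i, u (π i) = u i) :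
    aff p m r π₀ u 0 ∈ Subgroup.normalizer (wr p m r W : Set (Perm (Pts p m r))) := by
  refine mem_normalizer_of_mul ?_
  rintro _ ⟨π, hπW, v, rfl⟩
  refine ⟨aff p m r (π₀ * π * π₀⁻¹) 1 (fun i => (u (π₀.symm i) : ZMod p) * v (π₀.symm i)),
    ⟨_, (Subgroup.mem_normalizer_iff.mp hπ π).mp hπW, _, rfl⟩, ?_⟩
  rw [aff_mul, aff_mul, inv_mul_cancel_right]
  congr 1
  · funext i
    simp [hu π hπW i]
  · funext i
    simp [hu π hπW i]

theorem sign_eq_one_of_isPGroup {α : Type*} [Fintype α] [DecidableEq α] (hp2 : p ≠ 2) {P : Subgroup (Perm α)}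
    (hP : IsPGroup p P) {x : Perm α} (hx : x ∈ P) : Perm.sign x = 1 := by
  obtain ⟨k, hk⟩ := hP ⟨x, hx⟩
  exact CfsgLib.AbelianSylowAlt.sign_eq_one_of_odd p hp2 (congrArg Subtype.val hk)

theorem base_single_apply (j : Fin m) (l : ZMod p) (a : ZMod p) :
    baseHom p m r (Multiplicative.ofAdd (Pi.single j l)) (Sum.inl (j, a)) = Sum.inl (j, a + l) := by
  rw [CfsgLib.SymSylowGen.baseHom_inl, toAdd_ofAdd, Pi.single_eq_same]

theorem base_single_moved {j : Fin m} {l : ZMod p} {x : Pts p m r}
    (h : baseHom p m r (Multiplicative.ofAdd (Pi.single j l)) x ≠ x) : ∃ a, x = Sum.inl (j, a) := by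
  rcases x with ⟨i, a⟩ | q
  · by_cases hij : i = j
    · exact ⟨a, hij ▸ rfl⟩
    · exact absurd (by rw [CfsgLib.SymSylowGen.baseHom_inl, toAdd_ofAdd, Pi.single_eq_of_ne hij, add_zero]) h
  · exact absurd (by simp [baseHom]) h

/-- A permutation conjugating every block translation to a block translation is affine. -/
theorem exists_aff (hr : r ≤ 1) {g : Perm (Pts p m r)}
    (h : ∀ i, ∃ j, ∃ l : ZMod p, l ≠ 0 ∧ g * baseHom p m r (Multiplicative.ofAdd (Pi.single i 1)) =
      baseHom p m r (Multiplicative.ofAdd (Pi.single j l)) * g) :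
    ∃ π u v, g = aff p m r π u v := by
  choose j l hl hg using h
  have hbase : ∀ i x, g (baseHom p m r (Multiplicative.ofAdd (Pi.single i 1)) x) =
      baseHom p m r (Multiplicative.ofAdd (Pi.single (j i) (l i))) (g x) := fun i x =>
    congrArg (fun q : Perm (Pts p m r) => q x) (hg i)
  have h0 : ∀ i, ∃ v, g (Sum.inl (i, 0)) = Sum.inl (j i, v) := by
    intro i
    refine base_single_moved (l := l i) fun e => ?_
    rw [← hbase, base_single_apply, zero_add] at e
    have := g.injective e
    simp at this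
  choose v hv using h0
  have hform : ∀ i (a : ℕ), g (Sum.inl (i, (a : ZMod p))) = Sum.inl (j i, v i + (a : ZMod p) * l i) := by
    intro i a
    induction a with
    | zero => simp [hv]
    | succ a ih =>
      rw [Nat.cast_succ, ← base_single_apply (r := r) i 1 (a : ZMod p), hbase, ih, base_single_apply]
      simp [add_mul, add_assoc]
  have hform' : ∀ i (a : ZMod p), g (Sum.inl (i, a)) = Sum.inl (j i, v i + a * l i) := fun i a => by
    have := hform i a.val
    rwa [ZMod.natCast_zmod_val] at this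
  have hinj : Function.Injective j := by
    intro i i' e
    have h1 : g (Sum.inl (i, (v i' - v i) * (l i)⁻¹)) = g (Sum.inl (i', 0)) := by
      rw [hform', hv, e, mul_assoc, inv_mul_cancel₀ (hl i), mul_one, add_sub_cancel]
    exact (Prod.ext_iff.mp (Sum.inl_injective (g.injective h1))).1
  refine ⟨Equiv.ofBijective j (Finite.injective_iff_bijective.mp hinj), fun i => Units.mk0 (l i) (hl i), v, ?_⟩
  ext x
  rcases x with ⟨i, a⟩ | q
  · rw [hform', aff_inl]
    simp [add_comm, mul_comm]
  · rw [aff_inr]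
    rcases hgq : g (Sum.inr q) with ⟨i, b⟩ | q'
    · obtain ⟨i₀, rfl⟩ := (Finite.injective_iff_surjective.mp hinj) i
      have h1 : g (Sum.inl (i₀, (b - v i₀) * (l i₀)⁻¹)) = g (Sum.inr q) := by
        rw [hform', hgq, mul_assoc, inv_mul_cancel₀ (hl i₀), mul_one, add_sub_cancel]
      exact absurd (g.injective h1) (by simp)
    · have : Subsingleton (Fin r) := Fin.subsingleton_iff_le_one.mpr hr
      rw [Subsingleton.elim q' q]

theorem filter_single (j : Fin m) {l : ZMod p} (hl : l ≠ 0) :
    (Finset.univ.filter fun i => (Multiplicative.ofAdd (Pi.single j l : Fin m → ZMod p)).toAdd i ≠ 0) = {j} := by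
  ext i
  simp [Pi.single_apply, hl]

/-- The normalizer of the nested group consists of affine permutations. -/
theorem exists_aff_of_normalizer (hr : r ≤ 1) {W : Subgroup (Perm (Fin m))} {g : Perm (Pts p m r)}
    (hg : ∀ x ∈ wr p m r W, g * x * g⁻¹ ∈ wr p m r W) : ∃ π u v, g = aff p m r π u v := by
  refine exists_aff hr fun i => ?_
  obtain ⟨π, -, v, hy⟩ := hg _ (base_mem_wr W (Multiplicative.ofAdd (Pi.single i 1)))
  have hc : (aff p m r π 1 v).support.card = p := by
    rw [← hy, Perm.card_support_conj, card_support_base, filter_single i one_ne_zero, Finset.card_singleton, one_mul]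
  have hπ : π = 1 := by
    by_contra hne
    obtain ⟨j, hj⟩ : ∃ j, π j ≠ j := by
      by_contra h
      push Not at h
      exact hne (Equiv.ext h)
    have hsub : (({j, π j} : Finset (Fin m)) ×ˢ (Finset.univ : Finset (ZMod p))).map Function.Embedding.inl ⊆
        (aff p m r π 1 v).support := by
      intro x hx
      obtain ⟨⟨i', a⟩, hi', rfl⟩ := Finset.mem_map.mp hx
      simp only [Finset.mem_product, Finset.mem_insert, Finset.mem_singleton, Finset.mem_univ, and_true] at hi'
      have hne' : π i' ≠ i' := by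
        rcases hi' with rfl | rfl
        · exact hj
        · exact fun e => hj (π.injective e)
      simp [Perm.mem_support, hne']
    have h1 := Finset.card_le_card hsub
    rw [Finset.card_map, Finset.card_product, Finset.card_univ, ZMod.card,
      Finset.card_insert_of_notMem (by simpa using Ne.symm hj), Finset.card_singleton, hc] at h1
    have := hp.out.pos
    omega
  subst hπ
  rw [show v = (Multiplicative.ofAdd v).toAdd from rfl, ← baseHom_eq] at hy hc
  rw [card_support_base] at hc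
  obtain ⟨j, hj⟩ := Finset.card_eq_one.mp ((Nat.mul_eq_right hp.out.pos.ne').mp hc)
  have hvj : v = Pi.single j (v j) := by
    funext i'
    by_cases h : i' = j
    · subst h; rw [Pi.single_eq_same]
    · rw [Pi.single_eq_of_ne h]
      by_contra h'
      exact h (Finset.mem_singleton.mp (hj.le (Finset.mem_filter.mpr ⟨Finset.mem_univ _, h'⟩)))
  refine ⟨j, v j, (Finset.mem_filter.mp (hj.ge (Finset.mem_singleton_self j))).2, ?_⟩
  rw [← hvj, ← hy, inv_mul_cancel_right]

/-- The base is its own centralizer. -/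
theorem exists_base_of_comm (hr : r ≤ 1) {y : Perm (Pts p m r)}
    (h : ∀ f, y * baseHom p m r f = baseHom p m r f * y) : y ∈ (baseHom p m r).range := by
  obtain ⟨π, u, v, rfl⟩ := exists_aff hr (g := y) fun i => ⟨i, 1, one_ne_zero, h _⟩
  have h1 : ∀ i, π i = i ∧ (u i : ZMod p) = 1 := fun i => by
    have e := congrArg (fun g : Perm (Pts p m r) => g (Sum.inl (i, 0))) (h (Multiplicative.ofAdd (Pi.single i 1)))
    simp only [Perm.mul_apply, base_single_apply, zero_add, aff_inl, mul_one, mul_zero,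
      CfsgLib.SymSylowGen.baseHom_inl, toAdd_ofAdd, Sum.inl.injEq, Prod.mk.injEq, true_and] at e
    by_cases hi : π i = i
    · refine ⟨hi, ?_⟩
      rw [hi, Pi.single_eq_same, add_comm, mul_one] at e
      exact add_left_cancel e
    · rw [Pi.single_eq_of_ne hi, add_zero, add_eq_right, Pi.single_eq_same, mul_one] at e
      exact absurd e (u i).ne_zero
  refine ⟨Multiplicative.ofAdd v, ?_⟩
  rw [baseHom_eq]
  exact congrArg₂ (fun a b => aff p m r a b v) (Equiv.ext fun i => ((h1 i).1).symm)
    (funext fun i => Units.ext ((h1 i).2).symm)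

/-- The subgroup generated by the `p`-elements normalizing the base. -/
def pgen : Subgroup (Perm (Pts p m r)) :=
  Subgroup.closure {x | x ∈ Subgroup.normalizer ((baseHom p m r).range : Set (Perm (Pts p m r))) ∧ ∃ k : ℕ, x ^ p ^ k = 1}

theorem pgen_sign (hp2 : p ≠ 2) {x : Perm (Pts p m r)} (hx : x ∈ pgen (p := p) (m := m) (r := r)) : Perm.sign x = 1 := by
  have hle : pgen (p := p) (m := m) (r := r) ≤ alternatingGroup (Pts p m r) := by
    rw [pgen, Subgroup.closure_le]
    rintro y ⟨-, k, hk⟩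
    exact CfsgLib.AbelianSylowAlt.sign_eq_one_of_odd p hp2 hk
  exact hle hx

theorem pgen_conj {x z : Perm (Pts p m r)} (hz : z ∈ Subgroup.normalizer ((baseHom p m r).range : Set (Perm (Pts p m r))))
    (hx : x ∈ pgen (p := p) (m := m) (r := r)) : z * x * z⁻¹ ∈ pgen (p := p) (m := m) (r := r) := by
  have hle : pgen (p := p) (m := m) (r := r) ≤ (pgen (p := p) (m := m) (r := r)).comap (MulAut.conj z).toMonoidHom := by
    conv_lhs => rw [pgen]
    rw [Subgroup.closure_le]
    rintro y ⟨hy, k, hk⟩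
    refine Subgroup.subset_closure ⟨mul_mem (mul_mem hz hy) (inv_mem hz), k, ?_⟩
    show (z * y * z⁻¹) ^ p ^ k = 1
    rw [conj_pow, hk, mul_one, mul_inv_cancel]
  exact hle hx

theorem base_mem_pgen (f : Multiplicative (Fin m → ZMod p)) : baseHom p m r f ∈ pgen (p := p) (m := m) (r := r) :=
  Subgroup.subset_closure ⟨Subgroup.le_normalizer ⟨f, rfl⟩, 1, by rw [pow_one, baseHom_pow]⟩

/-- The even permutations of the blocks. -/
theorem lift_mem_pgen (hp2 : p ≠ 2) (hm : p ≤ m) {π : Perm (Fin m)} (hπ : Perm.sign π = 1) :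
    aff p m r π 1 0 ∈ pgen (p := p) (m := m) (r := r) := by
  have hp3 : 3 ≤ p := by have := hp.out.two_le; omega
  let L : Subgroup (Perm (Fin m)) := (pgen (p := p) (m := m) (r := r)).comap (liftHom p m r)
  have hLn : ∀ w x, x ∈ L → w * x * w⁻¹ ∈ L := fun w x hx => by
    show liftHom p m r (w * x * w⁻¹) ∈ pgen (p := p) (m := m) (r := r)
    rw [map_mul, map_mul, map_inv]
    exact pgen_conj (by rw [liftHom_eq]; exact aff_mem_normalizer w 1 0) hx
  -- a cycle of length `p`
  obtain ⟨ι⟩ : Nonempty (ZMod p ↪ Fin m) := Function.Embedding.nonempty_of_card_le (by simpa using hm)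
  let c : Perm (Fin m) := Perm.viaEmbeddingHom ι (Equiv.addRight (1 : ZMod p))
  have hc : c ∈ L := by
    refine Subgroup.subset_closure ⟨?_, 1, ?_⟩
    · rw [liftHom_eq]; exact aff_mem_normalizer _ 1 0
    · rw [pow_one, ← map_pow, ← map_pow]
      have : (Equiv.addRight (1 : ZMod p)) ^ p = 1 := by
        have h : ∀ k : ℕ, (Equiv.addRight (1 : ZMod p)) ^ k = Equiv.addRight (k : ZMod p) := by
          intro k
          induction k with
          | zero => ext x; simp
          | succ k ih => ext x; simp [pow_succ, ih, Perm.mul_apply]; ring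
        rw [h, ZMod.natCast_self]
        ext x; simp
      rw [this, map_one, map_one]
  have hcap : ∀ a : ZMod p, c (ι a) = ι (a + 1) := fun a => by
    simp [c, Perm.viaEmbeddingHom_apply, Perm.viaEmbedding_apply]
  have h01 : ι 0 ≠ ι (0 + 1) := fun e => by simpa using ι.injective e
  have h12 : ι (0 + 1) ≠ ι (0 + 1 + 1) := fun e => by simpa using ι.injective e
  have h02 : ι 0 ≠ ι (0 + 1 + 1) := fun e => by
    have e' : ((2 : ℕ) : ZMod p) = 0 := by
      rw [Nat.cast_ofNat, ← one_add_one_eq_two]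
      simpa using (ι.injective e).symm
    exact absurd (Nat.le_of_dvd two_pos ((ZMod.natCast_eq_zero_iff 2 p).mp e')) (by omega)
  set s := swap (ι 0) (ι (0 + 1)) with hs
  have hmem : c * s * c⁻¹ * s ∈ L := by
    rw [show c * s * c⁻¹ * s = c * (s * c⁻¹ * s⁻¹) by rw [hs, swap_inv]; group]
    exact mul_mem hc (hLn s _ (inv_mem hc))
  have h3 : (c * s * c⁻¹ * s).IsThreeCycle := by
    rw [hs, ← swap_apply_apply, hcap, hcap, swap_comm (ι 0) (ι (0 + 1))]
    exact Perm.isThreeCycle_swap_mul_swap_same h12 h01.symm h02.symm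
  have hall : alternatingGroup (Fin m) ≤ L := by
    rw [← Perm.closure_three_cycles_eq_alternating, Subgroup.closure_le]
    intro x hx
    obtain ⟨w, hw⟩ := isConj_iff.mp (Perm.isConj_iff_cycleType_eq.mpr (h3.cycleType.trans hx.cycleType.symm))
    exact hw ▸ hLn w _ hmem
  have := hall hπ
  rwa [← liftHom_eq]

/-- The scalings of determinant one. -/
theorem scale_mem_pgen (hp2 : p ≠ 2) (hm : p ≤ m) {u : Fin m → (ZMod p)ˣ} (hu : ∏ i, u i = 1) :
    scale p m r u ∈ pgen (p := p) (m := m) (r := r) := by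
  classical
  have hp3 : 3 ≤ p := by have := hp.out.two_le; omega
  have hpair : ∀ i j : Fin m, i ≠ j → ∀ c : (ZMod p)ˣ,
      scale p m r (Pi.mulSingle j c * (Pi.mulSingle i c)⁻¹) ∈ pgen (p := p) (m := m) (r := r) := by
    intro i j hij c
    obtain ⟨k, hk⟩ : ∃ k, k ∉ ({i, j} : Finset (Fin m)) := by
      by_contra h
      push Not at h
      have h1 := Finset.card_le_card (fun x (_ : x ∈ (Finset.univ : Finset (Fin m))) => h x)
      rw [Finset.card_univ, Fintype.card_fin] at h1
      have := Finset.card_le_two (a := i) (b := j)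
      omega
    simp only [Finset.mem_insert, Finset.mem_singleton, not_or] at hk
    set π := swap i j * swap i k with hπ
    have hπj : π j = i := by
      rw [hπ, Perm.mul_apply, swap_apply_of_ne_of_ne (Ne.symm hij) (Ne.symm hk.2), swap_apply_right]
    have hsgn : Perm.sign π = 1 := by
      rw [hπ, map_mul, Perm.sign_swap hij, Perm.sign_swap (Ne.symm hk.1)]; rfl
    have hπK := lift_mem_pgen (r := r) hp2 hm hsgn
    set d : Perm (Pts p m r) := scale p m r (Pi.mulSingle i c) with hd
    have hdn : d⁻¹ ∈ Subgroup.normalizer ((baseHom p m r).range : Set (Perm (Pts p m r))) :=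
      inv_mem (aff_mem_normalizer 1 _ 0)
    have h := mul_mem (pgen_conj hdn (inv_mem hπK)) hπK
    rw [show d⁻¹ * (aff p m r π 1 0)⁻¹ * d⁻¹⁻¹ * aff p m r π 1 0 = d⁻¹ * ((aff p m r π 1 0)⁻¹ * d * aff p m r π 1 0) by
      group] at h
    have e : (aff p m r π 1 0)⁻¹ * d * aff p m r π 1 0 = scale p m r ((Pi.mulSingle i c) ∘ π) := by
      rw [mul_assoc, inv_mul_eq_iff_eq_mul]
      show aff p m r 1 _ 0 * _ = _ * aff p m r 1 _ 0
      rw [aff_mul, aff_mul]
      ext x
      rcases x with ⟨l, a⟩ | q <;> simp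
    rw [e, hd, ← map_inv, ← map_mul] at h
    convert h using 2
    funext l
    simp only [Pi.mul_apply, Pi.inv_apply, Function.comp_apply]
    rw [mul_comm]
    congr 1
    by_cases hl : l = j
    · subst hl; rw [hπj, Pi.mulSingle_eq_same, Pi.mulSingle_eq_same]
    · rw [Pi.mulSingle_eq_of_ne hl, Pi.mulSingle_eq_of_ne fun e => hl (π.injective (e.trans hπj.symm))]
  have i0 : Fin m := ⟨0, by omega⟩
  have hdec : u = ∏ j ∈ (Finset.univ : Finset (Fin m)).erase i0, Pi.mulSingle j (u j) * (Pi.mulSingle i0 (u j))⁻¹ := by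
    funext l
    rw [Finset.prod_apply]
    by_cases hl : l = i0
    · subst hl
      rw [← Finset.mul_prod_erase Finset.univ u (Finset.mem_univ l)] at hu
      rw [eq_inv_of_mul_eq_one_left hu, ← Finset.prod_inv_distrib]
      refine Finset.prod_congr rfl fun j hj => ?_
      rw [Pi.mul_apply, Pi.inv_apply, Pi.mulSingle_eq_of_ne (Finset.ne_of_mem_erase hj).symm, Pi.mulSingle_eq_same, one_mul]
    · rw [Finset.prod_eq_single l]
      · rw [Pi.mul_apply, Pi.inv_apply, Pi.mulSingle_eq_same, Pi.mulSingle_eq_of_ne hl, inv_one, mul_one]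
      · intro b _ hb
        rw [Pi.mul_apply, Pi.inv_apply, Pi.mulSingle_eq_of_ne hb.symm, Pi.mulSingle_eq_of_ne hl, inv_one, mul_one]
      · intro h
        exact absurd (Finset.mem_erase.mpr ⟨hl, Finset.mem_univ _⟩) h
  rw [hdec]
  refine Finset.prod_induction _ (fun w => scale p m r w ∈ pgen (p := p) (m := m) (r := r)) (fun a b ha hb => ?_) ?_
    fun j hj => hpair i0 j (Finset.ne_of_mem_erase hj).symm (u j)
  · rw [map_mul]; exact mul_mem ha hb
  · rw [map_one]; exact one_mem _

end CfsgLib.AltFusion
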