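import Cfsg.Agent.Lib.SymSylowGen

/-! Subgroups of a Sylow subgroup of an alternating group closed under fusion. -/

set_option autoImplicit false

namespace CfsgLib.AltFusion

open Equiv
open CfsgLib.SymSylowGen (Pts baseHom liftHom lift_conj_base baseHom_pow sign_liftHom)

section Conj

variable {α : Type*} [Fintype α] [DecidableEq α] {p : ℕ} [hp : Fact p.Prime]

theorem cycleType_eq {x : Perm α} (hx : x ^ p = 1) :
    x.cycleType = Multiset.replicate (x.support.card / p) p := by
  have hall : ∀ a ∈ x.cycleType, a = p := fun a ha => by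
    have h1 := (Perm.dvd_of_mem_cycleType ha).trans (orderOf_dvd_of_pow_eq_one hx)
    rcases (Nat.dvd_prime hp.out).mp h1 with h | h
    · have := Perm.two_le_of_mem_cycleType ha
      omega
    · exact h
  have h : x.cycleType = Multiset.replicate (Multiset.card x.cycleType) p := Multiset.eq_replicate.mpr ⟨rfl, hall⟩
  have hs : x.support.card = Multiset.card x.cycleType * p := by
    rw [← Perm.sum_cycleType]
    conv_lhs => rw [h]
    rw [Multiset.sum_replicate, smul_eq_mul]
  rw [hs, Nat.mul_div_cancel _ hp.out.pos]
  exact h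

theorem isConj_of_pow {x y : Perm α} (hx : x ^ p = 1) (hy : y ^ p = 1) (h : x.support.card = y.support.card) :
    IsConj x y := by
  rw [Perm.isConj_iff_cycleType_eq, cycleType_eq hx, cycleType_eq hy, h]

theorem sign_eq_one_of_pow (hodd : Odd p) {x : Perm α} (hx : x ^ p = 1) : Perm.sign x = 1 := by
  obtain ⟨j, hj⟩ := hodd
  have h : Perm.sign x ^ p = 1 := by rw [← map_pow, hx, map_one]
  rwa [hj, pow_succ, pow_mul, Int.units_sq, one_pow, one_mul] at h

end Conj

variable (p : ℕ) [hp : Fact p.Prime]

/-- The indicator of the first `k` blocks. -/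
def ind (m k : ℕ) : Multiplicative (Fin m → ZMod p) :=
  Multiplicative.ofAdd fun i => if i.val < k then 1 else 0

theorem support_base (m r : ℕ) (f : Multiplicative (Fin m → ZMod p)) :
    (baseHom p m r f).support =
      ((Finset.univ.filter fun i => f.toAdd i ≠ 0) ×ˢ (Finset.univ : Finset (ZMod p))).map Function.Embedding.inl := by
  ext x
  rcases x with ⟨i, a⟩ | j
  · simp [baseHom, Perm.mem_support]
  · simp [baseHom, Perm.mem_support]

theorem card_support_base (m r : ℕ) (f : Multiplicative (Fin m → ZMod p)) :
    (baseHom p m r f).support.card = (Finset.univ.filter fun i => f.toAdd i ≠ 0).card * p := by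
  rw [support_base, Finset.card_map, Finset.card_product, Finset.card_univ, ZMod.card]

theorem card_ind {m k : ℕ} (hk : k ≤ m) :
    (Finset.univ.filter fun i : Fin m => (ind p m k).toAdd i ≠ 0).card = k := by
  have h : (Finset.univ.filter fun i : Fin m => (ind p m k).toAdd i ≠ 0) =
      (Finset.univ : Finset (Fin k)).map (Fin.castLEEmb hk) := by
    ext i
    simp only [ind, toAdd_ofAdd, Finset.mem_filter, Finset.mem_univ, true_and, ne_eq, ite_eq_right_iff, one_ne_zero,
      imp_false, not_not, Finset.mem_map, Fin.castLEEmb_apply]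
    exact ⟨fun h => ⟨⟨i, h⟩, Fin.ext rfl⟩, fun ⟨j, hj⟩ => hj ▸ j.2⟩
  rw [h, Finset.card_map, Finset.card_univ, Fintype.card_fin]

theorem exists_odd_centralizing {m r k : ℕ} (hm : 3 ≤ m) (hk : 0 < k) :
    ∃ z : Perm (Pts p m r), Perm.sign z = -1 ∧ z * baseHom p m r (ind p m k) = baseHom p m r (ind p m k) * z := by
  rcases hp.out.eq_two_or_odd' with h2 | hodd
  · subst h2
    refine ⟨baseHom 2 m r (Multiplicative.ofAdd (Pi.single ⟨0, by omega⟩ 1)), ?_, ?_⟩
    · have hsupp := card_support_base 2 m r (Multiplicative.ofAdd (Pi.single (⟨0, by omega⟩ : Fin m) (1 : ZMod 2)))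
      have hone : (Finset.univ.filter fun i => (Pi.single (⟨0, by omega⟩ : Fin m) (1 : ZMod 2) : Fin m → ZMod 2) i ≠ 0) =
          {⟨0, by omega⟩} := by
        ext i
        simp [Pi.single_apply]
      rw [toAdd_ofAdd, hone, Finset.card_singleton, one_mul] at hsupp
      exact (Perm.card_support_eq_two.mp hsupp).sign_eq
    · rw [← map_mul, ← map_mul, mul_comm]
  · -- two blocks carrying the same exponent
    obtain ⟨i, j, hij, he⟩ : ∃ i j : Fin m, i ≠ j ∧ (ind p m k).toAdd i = (ind p m k).toAdd j := by
      by_cases h1 : 1 < k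
      · exact ⟨⟨0, by omega⟩, ⟨1, by omega⟩, by simp, by simp [ind, hk, h1]⟩
      · exact ⟨⟨1, by omega⟩, ⟨2, by omega⟩, by simp, by simp [ind, show ¬ 1 < k from h1, show ¬ 2 < k by omega]⟩
    refine ⟨liftHom p m r (swap i j), ?_, ?_⟩
    · rw [sign_liftHom, Perm.sign_swap hij]
      exact hodd.neg_one_pow
    · rw [lift_conj_base]
      congr 2
      apply Multiplicative.toAdd.injective
      funext l
      show (ind p m k).toAdd ((swap i j).symm l) = _
      rw [symm_swap, swap_apply_def]
      split_ifs with ha hb
      · rw [ha, he]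
      · rw [hb, he]
      · rfl

/-- Even permutations of exponent `p` are conjugate in the alternating group as soon as they move the
same number of points. -/
theorem isConj_alt {m r : ℕ} (hm : 3 ≤ m) (hr : r < p) {x y : alternatingGroup (Pts p m r)}
    (hx : x ^ p = 1) (hy : y ^ p = 1) (h : x.1.support.card = y.1.support.card) :
    ∃ g : alternatingGroup (Pts p m r), g * x * g⁻¹ = y := by
  have hx' : x.1 ^ p = 1 := congrArg Subtype.val hx
  have hy' : y.1 ^ p = 1 := congrArg Subtype.val hy
  rcases Nat.eq_zero_or_pos x.1.support.card with h0 | hpos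
  · refine ⟨1, ?_⟩
    have e1 : x.1 = 1 := Perm.support_eq_empty_iff.mp (Finset.card_eq_zero.mp h0)
    have e2 : y.1 = 1 := Perm.support_eq_empty_iff.mp (Finset.card_eq_zero.mp (h ▸ h0))
    rw [one_mul, inv_one, mul_one]
    exact Subtype.ext (e1.trans e2.symm)
  set k := x.1.support.card / p with hk
  have hdvd : p ∣ x.1.support.card := by
    have h1 := cycleType_eq (p := p) hx'
    rw [← Perm.sum_cycleType, h1, Multiset.sum_replicate, smul_eq_mul]
    exact dvd_mul_left _ _
  have hkm : k ≤ m := by
    have h1 := x.1.support.card_le_univ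
    simp only [Pts, Fintype.card_sum, Fintype.card_prod, Fintype.card_fin, ZMod.card] at h1
    have h2 : k * p ≤ m * p + r := (Nat.div_mul_cancel hdvd).le.trans h1
    by_contra hlt
    have : (m + 1) * p ≤ k * p := Nat.mul_le_mul_right p (by omega)
    rw [Nat.succ_mul] at this
    omega
  have hk0 : 0 < k := Nat.div_pos (Nat.le_of_dvd hpos hdvd) hp.out.pos
  set t := baseHom p m r (ind p m k) with ht
  have htc : t.support.card = x.1.support.card := by
    rw [ht, card_support_base, card_ind p hkm, hk, Nat.div_mul_cancel hdvd]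
  obtain ⟨a, ha⟩ := isConj_iff.mp (isConj_of_pow (p := p) hx' (baseHom_pow p m r _) htc.symm)
  obtain ⟨b, hb⟩ := isConj_iff.mp (isConj_of_pow (p := p) (baseHom_pow p m r _) hy' (htc.trans h))
  obtain ⟨z, hz, hzc⟩ := exists_odd_centralizing p (r := r) hm hk0
  rcases Int.units_eq_one_or (Perm.sign (b * a)) with hs | hs
  · refine ⟨⟨b * a, hs⟩, Subtype.ext ?_⟩
    show (b * a) * x.1 * (b * a)⁻¹ = y.1
    rw [show (b * a) * x.1 * (b * a)⁻¹ = b * (a * x.1 * a⁻¹) * b⁻¹ by group, ha, hb]
  · refine ⟨⟨b * z * a, ?_⟩, Subtype.ext ?_⟩
    · show Perm.sign (b * z * a) = 1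
      rw [map_mul, map_mul, hz, mul_right_comm, ← map_mul, hs]
      rfl
    · show (b * z * a) * x.1 * (b * z * a)⁻¹ = y.1
      rw [show (b * z * a) * x.1 * (b * z * a)⁻¹ = b * (z * (a * x.1 * a⁻¹) * z⁻¹) * b⁻¹ by group, ha, hzc,
        mul_inv_cancel_right, hb]

/-- A nontrivial fusion closed subgroup contains every element of exponent `p`. -/
theorem closed_mem {m r : ℕ} (hm : 3 ≤ m) (hr : r < p) (U T : Subgroup (alternatingGroup (Pts p m r)))
    (hUp : IsPGroup p U)
    (hE : ∀ f, ∀ h : Perm.sign (baseHom p m r f) = 1, (⟨baseHom p m r f, h⟩ : alternatingGroup (Pts p m r)) ∈ U)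
    (hσ : p = 2 → ∀ i j : Fin m, i.val = 0 → j.val = 1 → ∀ h : Perm.sign (liftHom p m r (swap i j)) = 1,
      (⟨liftHom p m r (swap i j), h⟩ : alternatingGroup (Pts p m r)) ∈ U)
    (hTU : T ≤ U) (hT : T ≠ ⊥) (hcl : ∀ x ∈ T, ∀ g : alternatingGroup (Pts p m r), g * x * g⁻¹ ∈ U → g * x * g⁻¹ ∈ T) :
    ∀ x ∈ U, x ^ p = 1 → x ∈ T := by
  classical
  have key : ∀ x ∈ T, x ^ p = 1 → ∀ y ∈ U, y ^ p = 1 → y.1.support.card = x.1.support.card → y ∈ T := by
    intro x hx hxp y hy hyp hc
    obtain ⟨g, hg⟩ := isConj_alt p hm hr hxp hyp hc.symm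
    exact hg ▸ hcl x hx g (hg ▸ hy)
  have hpw : ∀ (f : Multiplicative (Fin m → ZMod p)) (h : Perm.sign (baseHom p m r f) = 1),
      (⟨baseHom p m r f, h⟩ : alternatingGroup (Pts p m r)) ^ p = 1 :=
    fun f h => Subtype.ext (baseHom_pow p m r f)
  have hmulT : ∀ (f g : Multiplicative (Fin m → ZMod p)) (hf : Perm.sign (baseHom p m r f) = 1)
      (hg : Perm.sign (baseHom p m r g) = 1) (hfg : Perm.sign (baseHom p m r (f * g)) = 1),
      (⟨baseHom p m r f, hf⟩ : alternatingGroup (Pts p m r)) ∈ T → (⟨baseHom p m r g, hg⟩ : alternatingGroup (Pts p m r)) ∈ T →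
      (⟨baseHom p m r (f * g), hfg⟩ : alternatingGroup (Pts p m r)) ∈ T := fun f g hf hg hfg h1 h2 => by
    have : (⟨baseHom p m r (f * g), hfg⟩ : alternatingGroup (Pts p m r)) = ⟨_, hf⟩ * ⟨_, hg⟩ := Subtype.ext (map_mul _ _ _)
    rw [this]
    exact mul_mem h1 h2
  -- an element of exponent `p`
  obtain ⟨t, htT, htp, ht1⟩ : ∃ t ∈ T, t ^ p = 1 ∧ t ≠ 1 := by
    have hTp : IsPGroup p T := hUp.to_le hTU
    have : Nontrivial T := (Subgroup.nontrivial_iff_ne_bot T).mpr hT
    obtain ⟨j, hj⟩ := IsPGroup.iff_card.mp hTp
    have hdvd : p ∣ Nat.card T := by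
      rcases j with _ | j
      · have := Finite.one_lt_card (α := T)
        rw [hj, pow_zero] at this
        omega
      · rw [hj, pow_succ]; exact dvd_mul_left _ _
    obtain ⟨w, hw⟩ := exists_prime_orderOf_dvd_card' p hdvd
    refine ⟨w, w.2, ?_, fun e => ?_⟩
    · have h1 : w ^ p = 1 := orderOf_dvd_iff_pow_eq_one.mp (dvd_of_eq hw)
      exact congrArg Subtype.val h1
    · rw [show w = 1 from Subtype.ext e, orderOf_one] at hw
      exact hp.out.one_lt.ne hw
  set c := t.1.support.card / p with hc
  have hcard : t.1.support.card = c * p := by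
    have h1 := cycleType_eq (p := p) (congrArg Subtype.val htp : t.1 ^ p = 1)
    conv_lhs => rw [← Perm.sum_cycleType, h1]
    rw [Multiset.sum_replicate, smul_eq_mul]
  have hcm : c ≤ m := by
    have h1 := t.1.support.card_le_univ
    simp only [Pts, Fintype.card_sum, Fintype.card_prod, Fintype.card_fin, ZMod.card] at h1
    by_contra hlt
    have : (m + 1) * p ≤ c * p := Nat.mul_le_mul_right p (by omega)
    rw [Nat.succ_mul] at this
    omega
  have hc0 : 0 < c := by
    rcases Nat.eq_zero_or_pos c with h | h
    · rw [h, zero_mul] at hcard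
      exact absurd (Subtype.ext (Perm.support_eq_empty_iff.mp (Finset.card_eq_zero.mp hcard))) ht1
    · exact h
  -- every even base element moving as many points lies in `T`
  have hbase : ∀ f (h : Perm.sign (baseHom p m r f) = 1), (Finset.univ.filter fun i => f.toAdd i ≠ 0).card = c →
      (⟨baseHom p m r f, h⟩ : alternatingGroup (Pts p m r)) ∈ T := fun f h hf =>
    key t htT htp _ (hE f h) (hpw f h) (by
      show (baseHom p m r f).support.card = _
      rw [card_support_base, hf, hcard])
  -- reduce to the canonical elements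
  suffices hind : ∀ k, k ≤ m → ∀ h : Perm.sign (baseHom p m r (ind p m k)) = 1,
      (⟨baseHom p m r (ind p m k), h⟩ : alternatingGroup (Pts p m r)) ∈ T by
    intro x hxU hxp
    have h1 := cycleType_eq (p := p) (congrArg Subtype.val hxp : x.1 ^ p = 1)
    set k := x.1.support.card / p with hk
    have hxc : x.1.support.card = k * p := by
      conv_lhs => rw [← Perm.sum_cycleType, h1]
      rw [Multiset.sum_replicate, smul_eq_mul]
    have hkm : k ≤ m := by
      have h1 := x.1.support.card_le_univ
      simp only [Pts, Fintype.card_sum, Fintype.card_prod, Fintype.card_fin, ZMod.card] at h1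
      by_contra hlt
      have : (m + 1) * p ≤ k * p := Nat.mul_le_mul_right p (by omega)
      rw [Nat.succ_mul] at this
      omega
    have hs : (baseHom p m r (ind p m k)).support.card = x.1.support.card := by
      rw [card_support_base, card_ind p hkm, hxc]
    have hsgn : Perm.sign (baseHom p m r (ind p m k)) = 1 := by
      rw [Perm.sign_of_cycleType, cycleType_eq (baseHom_pow p m r _), hs, ← h1, ← Perm.sign_of_cycleType]
      exact x.2
    exact key _ (hind k hkm hsgn) (hpw _ _) x hxU hxp hs.symm
  rcases hp.out.eq_two_or_odd' with h2 | hodd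
  · subst h2
    have hsign : ∀ f, Even (Finset.univ.filter fun i => (f : Multiplicative (Fin m → ZMod 2)).toAdd i ≠ 0).card →
        Perm.sign (baseHom 2 m r f) = 1 := fun f hf => by
      rw [Perm.sign_of_cycleType, cycleType_eq (p := 2) (baseHom_pow 2 m r f), card_support_base,
        Nat.mul_div_cancel _ two_pos, Multiset.sum_replicate, Multiset.card_replicate, smul_eq_mul]
      exact Even.neg_one_pow (Nat.even_add.mpr (iff_of_true (even_two.mul_left _) hf))
    have hceven : Even c := by
      have h1 := t.2
      rw [Perm.mem_alternatingGroup, Perm.sign_of_cycleType, cycleType_eq (p := 2) (congrArg Subtype.val htp : t.1 ^ 2 = 1),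
        ← hc, Multiset.sum_replicate, Multiset.card_replicate, smul_eq_mul] at h1
      by_contra hne
      rw [Nat.not_even_iff_odd] at hne
      rw [(Even.add_odd (even_two.mul_left c) hne).neg_one_pow] at h1
      exact absurd h1 (by decide)
    -- an element moving four points
    have hfour : ∀ f (h : Perm.sign (baseHom 2 m r f) = 1), (Finset.univ.filter fun i => f.toAdd i ≠ 0).card = 2 →
        (⟨baseHom 2 m r f, h⟩ : alternatingGroup (Pts 2 m r)) ∈ T := by
      suffices hex : ∃ u ∈ T, u ^ 2 = 1 ∧ u.1.support.card = 4 by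
        obtain ⟨u, hu, hup, huc⟩ := hex
        intro f h hf
        refine key u hu hup _ (hE f h) (hpw f h) ?_
        show (baseHom 2 m r f).support.card = _
        rw [card_support_base, hf, huc]
      let i0 : Fin m := ⟨0, by omega⟩
      let i1 : Fin m := ⟨1, by omega⟩
      rcases eq_or_lt_of_le hcm with hcm' | hlt
      · -- all blocks are moved
        let all : Multiplicative (Fin m → ZMod 2) := ind 2 m m
        let rest : Multiplicative (Fin m → ZMod 2) := Multiplicative.ofAdd fun i => if 2 ≤ i.val then 1 else 0
        have hallc : (Finset.univ.filter fun i => all.toAdd i ≠ 0).card = c := by rw [card_ind 2 le_rfl, hcm']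
        have hall : Perm.sign (baseHom 2 m r all) = 1 := hsign all (hallc ▸ hceven)
        have hl : Perm.sign (liftHom 2 m r (swap i0 i1)) = 1 := by rw [sign_liftHom, sq, Int.units_mul_self]
        have hrest : Perm.sign (baseHom 2 m r rest) = 1 := by
          refine hsign rest ?_
          have e : (Finset.univ.filter fun i => rest.toAdd i ≠ 0) = ((Finset.univ : Finset (Fin m)).erase i0).erase i1 := by
            ext i
            simp only [rest, toAdd_ofAdd, Finset.mem_filter, Finset.mem_univ, true_and, ne_eq, ite_eq_right_iff,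
              one_ne_zero, imp_false, not_not, Finset.mem_erase, i0, i1, Fin.ext_iff, and_true]
            omega
          rw [e, Finset.card_erase_of_mem (by simp [i0, i1]), Finset.card_erase_of_mem (Finset.mem_univ _),
            Finset.card_univ, Fintype.card_fin]
          obtain ⟨d, hd⟩ := hceven
          exact ⟨d - 1, by omega⟩
        set y : alternatingGroup (Pts 2 m r) := ⟨baseHom 2 m r all, hall⟩ with hy
        set z : alternatingGroup (Pts 2 m r) :=
          ⟨liftHom 2 m r (swap i0 i1), hl⟩ * ⟨baseHom 2 m r rest, hrest⟩ with hz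
        have hzU : z ∈ U := mul_mem (hσ rfl i0 i1 rfl rfl hl) (hE rest hrest)
        have hcomm : ∀ f : Multiplicative (Fin m → ZMod 2), f.toAdd i0 = f.toAdd i1 →
            liftHom 2 m r (swap i0 i1) * baseHom 2 m r f = baseHom 2 m r f * liftHom 2 m r (swap i0 i1) := fun f he => by
          rw [lift_conj_base]
          congr 2
          apply Multiplicative.toAdd.injective
          funext l
          show f.toAdd ((swap i0 i1).symm l) = _
          rw [symm_swap, swap_apply_def]
          split_ifs with ha hb
          · rw [ha, he]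
          · rw [hb, he]
          · rfl
        have hsq : ∀ g : Perm (Pts 2 m r), ∀ f : Multiplicative (Fin m → ZMod 2), g ^ 2 = 1 →
            g * baseHom 2 m r f = baseHom 2 m r f * g → (g * baseHom 2 m r f) ^ 2 = 1 := fun g f hg hc' => by
          rw [(show Commute g (baseHom 2 m r f) from hc').mul_pow, hg, baseHom_pow, mul_one]
        have hl2 : liftHom 2 m r (swap i0 i1) ^ 2 = 1 := by rw [← map_pow, sq, swap_mul_self, map_one]
        have hzp : z ^ 2 = 1 := Subtype.ext (hsq _ rest hl2 (hcomm rest (by simp [rest, i0, i1])))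
        have hzc : z.1.support.card = t.1.support.card := by
          have e : z.1.support = (baseHom 2 m r all).support := by
            ext x
            rcases x with ⟨i, a⟩ | j
            · simp only [hz, Perm.mem_support, Subgroup.coe_mul, Perm.mul_apply, CfsgLib.SymSylowGen.baseHom_inl,
                CfsgLib.SymSylowGen.liftHom_inl, ne_eq, Sum.inl.injEq, Prod.mk.injEq, rest, all, ind, toAdd_ofAdd,
                if_pos i.2, add_eq_left, one_ne_zero, and_false, not_false_iff, iff_true]
              by_cases hi : 2 ≤ i.val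
              · simp [hi]
              · rcases (show i = i0 ∨ i = i1 by simp only [i0, i1, Fin.ext_iff]; omega) with rfl | rfl
                · simp [i0, i1]
                · simp [i0, i1]
            · simp [hz, baseHom, liftHom]
          rw [e, card_support_base, hallc, hcard]
        refine ⟨z * y, mul_mem (key t htT htp z hzU hzp hzc) (hbase all hall hallc), ?_, ?_⟩
        · refine Subtype.ext ?_
          show ((liftHom 2 m r (swap i0 i1) * baseHom 2 m r rest) * baseHom 2 m r all) ^ 2 = 1
          rw [mul_assoc, ← map_mul]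
          exact hsq _ _ hl2 (hcomm _ (by simp [rest, all, ind, i0, i1, show 0 < m by omega, show 1 < m by omega]))
        · show ((liftHom 2 m r (swap i0 i1) * baseHom 2 m r rest) * baseHom 2 m r all).support.card = 4
          rw [mul_assoc, ← map_mul]
          have e : (liftHom 2 m r (swap i0 i1) * baseHom 2 m r (rest * all)).support =
              (baseHom 2 m r (ind 2 m 2)).support := by
            ext x
            rcases x with ⟨i, a⟩ | j
            · simp only [Perm.mem_support, Perm.mul_apply, CfsgLib.SymSylowGen.baseHom_inl,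
                CfsgLib.SymSylowGen.liftHom_inl, ne_eq, Sum.inl.injEq, Prod.mk.injEq, rest, all, ind, toAdd_ofAdd,
                toAdd_mul, Pi.add_apply, if_pos i.2]
              by_cases hi : 2 ≤ i.val
              · have h1 : i ≠ i0 := by simp only [i0, ne_eq, Fin.ext_iff]; omega
                have h2 : i ≠ i1 := by simp only [i1, ne_eq, Fin.ext_iff]; omega
                simp [hi, show ¬ i.val < 2 by omega, swap_apply_of_ne_of_ne h1 h2, CharTwo.add_self_eq_zero]
              · rcases (show i = i0 ∨ i = i1 by simp only [i0, i1, Fin.ext_iff]; omega) with rfl | rfl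
                · simp [i0, i1]
                · simp [i0, i1]
            · simp [baseHom, liftHom]
          rw [e, card_support_base, card_ind 2 (by omega)]
      · -- two sets of `c` blocks differing in two blocks
        let f1 := ind 2 m c
        let f2 : Multiplicative (Fin m → ZMod 2) :=
          Multiplicative.ofAdd fun i => if 1 ≤ i.val ∧ i.val ≤ c then 1 else 0
        have h1c : (Finset.univ.filter fun i => f1.toAdd i ≠ 0).card = c := card_ind 2 hlt.le
        have h2c : (Finset.univ.filter fun i => f2.toAdd i ≠ 0).card = c := by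
          have e : (Finset.univ.filter fun i => f2.toAdd i ≠ 0) = (Finset.univ : Finset (Fin c)).map
              ⟨fun j => (⟨j.val + 1, by omega⟩ : Fin m), fun a b e => Fin.ext (by simpa using e)⟩ := by
            ext i
            simp only [f2, toAdd_ofAdd, Finset.mem_filter, Finset.mem_univ, true_and, ne_eq, ite_eq_right_iff, one_ne_zero,
              imp_false, not_not, Finset.mem_map, Function.Embedding.coeFn_mk]
            exact ⟨fun h => ⟨⟨i.val - 1, by omega⟩, Fin.ext (show i.val - 1 + 1 = i.val by omega)⟩,
              fun ⟨j, hj⟩ => hj ▸ ⟨Nat.le_add_left 1 _, j.2⟩⟩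
          rw [e, Finset.card_map, Finset.card_univ, Fintype.card_fin]
        have s1 : Perm.sign (baseHom 2 m r f1) = 1 := hsign f1 (h1c ▸ hceven)
        have s2 : Perm.sign (baseHom 2 m r f2) = 1 := hsign f2 (h2c ▸ hceven)
        have s3 : Perm.sign (baseHom 2 m r (f1 * f2)) = 1 := by rw [map_mul, map_mul, s1, s2, one_mul]
        refine ⟨_, hmulT f1 f2 s1 s2 s3 (hbase f1 s1 h1c) (hbase f2 s2 h2c), hpw _ _, ?_⟩
        show (baseHom 2 m r (f1 * f2)).support.card = 4
        rw [card_support_base]
        have e : (Finset.univ.filter fun i => (f1 * f2).toAdd i ≠ 0) = {i0, ⟨c, hlt⟩} := by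
          ext i
          simp only [f1, f2, ind, toAdd_mul, toAdd_ofAdd, Pi.add_apply, Finset.mem_filter, Finset.mem_univ, true_and,
            ne_eq, Finset.mem_insert, Finset.mem_singleton, i0, Fin.ext_iff]
          by_cases h1 : i.val = 0
          · simp [h1, hc0]
          by_cases h2 : i.val = c
          · simp [h1, h2, hc0.ne', show 1 ≤ c by omega]
          by_cases h3 : i.val < c
          · simp [h1, h2, h3, show 1 ≤ i.val by omega, h3.le, CharTwo.add_self_eq_zero]
          · simp [h1, h2, h3, show ¬ i.val ≤ c by omega]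
        rw [e, Finset.card_insert_of_notMem (by simp [i0, Fin.ext_iff]; omega), Finset.card_singleton]
    -- induction on the number of moved blocks
    intro k
    induction k using Nat.strong_induction_on with
    | _ k ih =>
      intro hk h
      have hkeven : Even k := by
        rw [Perm.sign_of_cycleType, cycleType_eq (p := 2) (baseHom_pow 2 m r _), card_support_base, card_ind 2 hk,
          Nat.mul_div_cancel _ two_pos, Multiset.sum_replicate, Multiset.card_replicate, smul_eq_mul] at h
        by_contra hne
        rw [(Even.add_odd (even_two.mul_left k) (Nat.not_even_iff_odd.mp hne)).neg_one_pow] at h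
        exact absurd h (by decide)
      rcases Nat.eq_zero_or_pos k with rfl | hk0
      · have : (⟨baseHom 2 m r (ind 2 m 0), h⟩ : alternatingGroup (Pts 2 m r)) = 1 := by
          refine Subtype.ext ?_
          show baseHom 2 m r (ind 2 m 0) = 1
          have : ind 2 m 0 = 1 := by simp [ind]; rfl
          rw [this, map_one]
        rw [this]
        exact one_mem _
      obtain ⟨d, hd⟩ := hkeven
      let g : Multiplicative (Fin m → ZMod 2) :=
        Multiplicative.ofAdd fun i => if k - 2 ≤ i.val ∧ i.val < k then 1 else 0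
      have hgc : (Finset.univ.filter fun i => g.toAdd i ≠ 0).card = 2 := by
        have e : (Finset.univ.filter fun i => g.toAdd i ≠ 0) = {⟨k - 2, by omega⟩, ⟨k - 1, by omega⟩} := by
          ext i
          simp only [g, toAdd_ofAdd, Finset.mem_filter, Finset.mem_univ, true_and, ne_eq, ite_eq_right_iff, one_ne_zero,
            imp_false, not_not, Finset.mem_insert, Finset.mem_singleton, Fin.ext_iff]
          omega
        rw [e, Finset.card_insert_of_notMem (by simp [Fin.ext_iff]; omega), Finset.card_singleton]
      have hsplit : ind 2 m k = ind 2 m (k - 2) * g := by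
        apply Multiplicative.toAdd.injective
        funext i
        simp only [ind, g, toAdd_mul, toAdd_ofAdd, Pi.add_apply]
        split_ifs <;> first | omega | simp
      have s1 : Perm.sign (baseHom 2 m r (ind 2 m (k - 2))) = 1 := hsign _ (by rw [card_ind 2 (by omega)]; exact ⟨d - 1, by omega⟩)
      have s2 : Perm.sign (baseHom 2 m r g) = 1 := hsign _ (by rw [hgc]; exact even_two)
      have := hmulT _ _ s1 s2 (by rw [map_mul, map_mul, s1, s2, one_mul]) (ih (k - 2) (by omega) (by omega) s1) (hfour g s2 hgc)
      simpa only [← hsplit] using this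
  · have hp2 : p ≠ 2 := fun e => by subst e; exact absurd hodd (by decide)
    have hsign : ∀ f, Perm.sign (baseHom p m r f) = 1 := fun f =>
      sign_eq_one_of_pow hodd (baseHom_pow p m r f)
    let f1 := ind p m c
    let f2 : Multiplicative (Fin m → ZMod p) :=
      Multiplicative.ofAdd fun i => if i.val = 0 then 2 else if i.val < c then 1 else 0
    have h2ne : (2 : ZMod p) ≠ 0 := fun e => hp2 ((Nat.prime_dvd_prime_iff_eq hp.out Nat.prime_two).mp
      ((ZMod.natCast_eq_zero_iff 2 p).mp (by exact_mod_cast e)))
    have h1c : (Finset.univ.filter fun i => f1.toAdd i ≠ 0).card = c := card_ind p hcm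
    have h2c : (Finset.univ.filter fun i => f2.toAdd i ≠ 0).card = c := by
      rw [← h1c]
      congr 1
      ext i
      simp only [f1, f2, ind, toAdd_ofAdd, Finset.mem_filter, Finset.mem_univ, true_and]
      by_cases h : i.val = 0
      · simp [h, h2ne, hc0]
      · simp [h]
    -- a single cycle
    have hsingle : (⟨baseHom p m r (f1⁻¹ * f2), hsign _⟩ : alternatingGroup (Pts p m r)) ∈ T :=
      hmulT f1⁻¹ f2 (hsign _) (hsign _) (hsign _) (by
        have : (⟨baseHom p m r f1⁻¹, hsign _⟩ : alternatingGroup (Pts p m r)) = ⟨_, hsign f1⟩⁻¹ := Subtype.ext (map_inv _ _)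
        rw [this]
        exact inv_mem (hbase f1 (hsign _) h1c)) (hbase f2 (hsign _) h2c)
    have hone : ∀ f, (Finset.univ.filter fun i => f.toAdd i ≠ 0).card = 1 →
        (⟨baseHom p m r f, hsign f⟩ : alternatingGroup (Pts p m r)) ∈ T := fun f hf => by
      refine key _ hsingle (hpw _ _) _ (hE f _) (hpw f _) ?_
      show (baseHom p m r f).support.card = (baseHom p m r (f1⁻¹ * f2)).support.card
      rw [card_support_base, card_support_base, hf]
      have e : (Finset.univ.filter fun i => (f1⁻¹ * f2).toAdd i ≠ 0) = {(⟨0, by omega⟩ : Fin m)} := by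
        ext i
        simp only [f1, f2, ind, toAdd_mul, toAdd_inv, toAdd_ofAdd, Pi.add_apply, Pi.neg_apply, Finset.mem_filter,
          Finset.mem_univ, true_and, Finset.mem_singleton, Fin.ext_iff]
        by_cases h : i.val = 0
        · rw [if_pos (h ▸ hc0), if_pos h, show (-1 : ZMod p) + 2 = 1 by ring]
          simp [h]
        · simp [h]
      rw [e, Finset.card_singleton]
    intro k
    induction k with
    | zero =>
      intro _ h
      have : (⟨baseHom p m r (ind p m 0), h⟩ : alternatingGroup (Pts p m r)) = 1 := by
        refine Subtype.ext ?_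
        show baseHom p m r (ind p m 0) = 1
        have : ind p m 0 = 1 := by simp [ind]; rfl
        rw [this, map_one]
      rw [this]
      exact one_mem _
    | succ k ih =>
      intro hk h
      let g : Multiplicative (Fin m → ZMod p) := Multiplicative.ofAdd (Pi.single ⟨k, hk⟩ 1)
      have hgc : (Finset.univ.filter fun i => g.toAdd i ≠ 0).card = 1 := by
        have e : (Finset.univ.filter fun i => g.toAdd i ≠ 0) = {(⟨k, hk⟩ : Fin m)} := by
          ext i; simp [g, Pi.single_apply]
        rw [e, Finset.card_singleton]
      have hsplit : ind p m (k + 1) = ind p m k * g := by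
        apply Multiplicative.toAdd.injective
        funext i
        simp only [ind, g, toAdd_mul, toAdd_ofAdd, Pi.add_apply, Pi.single_apply, Fin.ext_iff]
        split_ifs <;> first | omega | simp
      have := hmulT _ _ (hsign _) (hsign _) (hsign _) (ih (by omega) (hsign _)) (hone g hgc)
      simpa only [← hsplit] using this

end CfsgLib.AltFusion
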