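import Cfsg.Agent.Lib.Fusion.GroupSimple

/-! A simplicity criterion for group fusion systems through conjugates of `N_S(R)` inside `N_G(R)`. -/

set_option autoImplicit false
set_option linter.unusedSectionVars false

namespace CfsgLib.AltFusion

open Cfsg Cfsg.FusionSystem

variable {G : Type*} [Group G] [Finite G] {p : ℕ} [Fact p.Prime]

/-- The conjugates under `N_G(R)` of the elements of `N_S(R)`. -/
def conjGens (S R : Subgroup G) : Set G :=
  {x | ∃ m ∈ Subgroup.normalizer (R : Set G), ∃ u ∈ S, u ∈ Subgroup.normalizer (R : Set G) ∧ x = m * u * m⁻¹}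

theorem isSimple_of_conj_generated (S : Sylow p G) (hS1 : (S : Subgroup G) ≠ ⊥)
    (ha : ∀ T : Subgroup G, (groupFusionSystem (S : Subgroup G)).StronglyClosed T → T = ⊥ ∨ T = (S : Subgroup G))
    (hb : autInducedBy ⊤ (S : Subgroup G) ≤ ⨆ (R : Subgroup G)
      (_ : R ≤ (S : Subgroup G) ∧ (groupFusionSystem (S : Subgroup G)).IsCentric R),
      autInducedBy (Subgroup.closure (conjGens (S : Subgroup G) R)) (S : Subgroup G)) :
    (groupFusionSystem (S : Subgroup G)).IsSimple p := by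
  classical
  let F := Cfsg.groupFusionSystem (S : Subgroup G)
  have hF : F.IsSaturated p := Cfsg.FusionSystem.groupFusionSystem_isSaturated S
  refine ⟨hF, hS1, fun T E hE => ?_⟩
  obtain ⟨⟨hEsat, -, hsub, hT, hinv, hfr⟩, -⟩ := hE
  rcases ha T hT with h | rfl
  · exact Or.inl h
  refine Or.inr ⟨rfl, fun P => Set.Subset.antisymm (hsub P) fun φ hφ => ?_⟩
  -- it suffices to treat the automorphisms of `S`
  suffices htop : F.autGroup (S : Subgroup G) ≤ E.autGroup S by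
    obtain ⟨α, hα, φ₀, hφ₀, he⟩ := hfr P (F.source_le hφ) φ hφ
    obtain ⟨ψ, hψ, -, hψe⟩ := E.exists_map_of_mem_autGroup le_rfl (htop hα)
    obtain ⟨χ, hχ, hχe⟩ := E.exists_comp hφ₀ hψ (E.apply_mem hφ₀)
    exact E.mem_of_apply_eq hχ fun x => by rw [hχe, hψe, he x (E.apply_mem hφ₀ x)]
  rw [Cfsg.FusionSystem.autGroup_groupFusionSystem le_rfl]
  refine hb.trans ?_
  refine iSup_le fun R => iSup_le fun ⟨hRS, hRc⟩ => ?_
  let ρ : Subgroup.normalizer (R : Set G) →* MulAut R := R.normalizerMonoidHom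
  -- invariance under `N_G(R)`
  have hconj : ∀ g : Subgroup.normalizer (R : Set G), ∀ u : Subgroup.normalizer (R : Set G),
      ρ u ∈ E.autGroup R → ρ (g * u * g⁻¹) ∈ E.autGroup R := by
    intro g u hu
    obtain ⟨φu, hφu, -, hue⟩ := E.exists_map_of_mem_autGroup hRS hu
    have hgF : Cfsg.conjHom R (g : G) ∈ F.Hom R := by
      refine Cfsg.FusionSystem.conjHom_mem_groupFusionSystem hRS fun x hx => hRS ?_
      exact (Subgroup.mem_normalizer_iff.mp g.2 x).mp hx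
    obtain ⟨α, hα, φ₁, hφ₁, he₁⟩ := hfr R hRS _ hgF
    -- `c_g = α ∘ φ₁`: transport `u` first by `φ₁` inside `E`, then by `α`
    obtain ⟨i, hi, hir, hil, -⟩ := E.exists_inv hφ₁ (rfl : φ₁.range = φ₁.range)
    obtain ⟨m₁, hm₁, hm₁e⟩ := E.exists_comp hi hφu (fun y => hir.le ⟨y, rfl⟩)
    obtain ⟨m₂, hm₂, hm₂e⟩ := E.exists_comp hm₁ hφ₁
      (fun y => by rw [hm₁e, hue]; exact SetLike.coe_mem _)
    obtain ⟨χ, hχ, hχe⟩ := hinv _ (E.range_le hφ₁) m₂ hm₂ α hα
    have himg : R ≤ (φ₁.range.subgroupOf (S : Subgroup G)).map ((S : Subgroup G).subtype.comp α.toMonoidHom) := by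
      intro x hx
      refine ⟨⟨φ₁ ⟨(g : G)⁻¹ * x * g, (Subgroup.mem_normalizer_iff''.mp g.2 x).mp hx⟩, E.apply_mem hφ₁ _⟩,
        ⟨_, rfl⟩, ?_⟩
      show ((α _ : (S : Subgroup G)) : G) = x
      rw [← he₁]
      show (g : G) * ((g : G)⁻¹ * x * g) * (g : G)⁻¹ = x
      group
    refine E.mem_autGroup_of_map (E.restrict_mem hχ himg) fun x => ?_
    have hx' : (g : G)⁻¹ * x * g ∈ R := (Subgroup.mem_normalizer_iff''.mp g.2 x).mp x.2
    have hy : ((α ⟨φ₁ ⟨_, hx'⟩, E.apply_mem hφ₁ _⟩ : (S : Subgroup G)) : G) = x := by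
      rw [← he₁]
      show (g : G) * ((g : G)⁻¹ * x * g) * (g : G)⁻¹ = x
      group
    have hmem := himg x.2
    have h1 := hχe ⟨φ₁ ⟨_, hx'⟩, _, rfl⟩ (E.apply_mem hm₂ _) (hy.symm ▸ hmem)
    show ((g * u * g⁻¹ : Subgroup.normalizer (R : Set G)) : G) * x * _ = χ _
    have h2 : (⟨(x : G), hmem⟩ :
        ↥((φ₁.range.subgroupOf (S : Subgroup G)).map ((S : Subgroup G).subtype.comp α.toMonoidHom))) =
        ⟨_, hy.symm ▸ hmem⟩ := Subtype.ext hy.symm
    refine Eq.trans ?_ ((congrArg χ h2).trans h1).symm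
    have h3 : m₂ ⟨φ₁ ⟨_, hx'⟩, _, rfl⟩ = φ₁ (ρ u ⟨_, hx'⟩) := by
      rw [hm₂e]
      congr 1
      apply Subtype.ext
      show m₁ _ = _
      rw [hm₁e, hue]
      congr 2
      exact Subtype.ext (hil ⟨_, hx'⟩ _)
    have h4 : (⟨m₂ ⟨φ₁ ⟨_, hx'⟩, _, rfl⟩, E.apply_mem hm₂ _⟩ : (S : Subgroup G)) =
        ⟨φ₁ (ρ u ⟨_, hx'⟩), E.apply_mem hφ₁ _⟩ := Subtype.ext h3
    rw [h4, ← he₁]
    show _ = (g : G) * ((u : G) * ((g : G)⁻¹ * x * g) * (u : G)⁻¹) * (g : G)⁻¹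
    simp only [Subgroup.coe_mul, InvMemClass.coe_inv]
    group
  let H : Subgroup G := ((E.autGroup R).comap ρ).map (Subgroup.normalizer (R : Set G)).subtype
  have hH : Subgroup.closure (conjGens (S : Subgroup G) R) ≤ H := by
    refine (Subgroup.closure_le _).mpr ?_
    rintro _ ⟨m, hm, u, huS, huN, rfl⟩
    refine ⟨⟨m, hm⟩ * ⟨u, huN⟩ * ⟨m, hm⟩⁻¹, hconj _ _ ?_, rfl⟩
    exact Cfsg.FusionSystem.autInducedBy_le_autGroup hRS
      (Cfsg.mem_autInducedBy_iff.mpr ⟨u, huS, huN, fun x => rfl⟩)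
  intro α hα
  obtain ⟨g, hg, hgS, he⟩ := Cfsg.mem_autInducedBy_iff.mp hα
  obtain ⟨u, hu, hug⟩ := hH hg
  have hψ : Cfsg.conjHom (S : Subgroup G) g ∈ F.Hom S :=
    Cfsg.FusionSystem.conjHom_mem_groupFusionSystem le_rfl fun x hx =>
      (Subgroup.mem_normalizer_iff.mp hgS x).mp hx
  have hres : (Cfsg.conjHom (S : Subgroup G) g).comp (Subgroup.inclusion hRS) ∈ E.Hom R := by
    obtain ⟨φu, hφu, -, hue⟩ := E.exists_map_of_mem_autGroup hRS hu
    refine E.mem_of_apply_eq hφu fun x => ?_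
    rw [hue, ← hug]
    rfl
  exact E.mem_autGroup_of_map
    (Cfsg.FusionSystem.mem_of_restrict_centric S.2 hF hEsat hsub hRc hRS hψ hres) he


open CfsgLib.GroupSimple in
/-- The criterion read through an isomorphism. -/
theorem isSimple_of_equiv {H : Type*} [Group H] [Finite H] (ψ : H ≃* G) (S : Sylow p G) (U : Subgroup H)
    (hUS : U.map ψ.toMonoidHom = (S : Subgroup G)) (hU1 : U ≠ ⊥)
    (hsc : ∀ T : Subgroup H, T ≤ U → T ≠ ⊥ → (∀ x ∈ T, ∀ g : H, g * x * g⁻¹ ∈ U → g * x * g⁻¹ ∈ T) → U ≤ T)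
    (hgen : Subgroup.normalizer (U : Set H) ≤ Subgroup.closure {g | g ∈ Subgroup.normalizer (U : Set H) ∧
      ∃ R : Subgroup H, R ≤ U ∧ (∀ y : H, y ∈ Subgroup.centralizer (R : Set H) →
        (∃ k : ℕ, orderOf y = p ^ k) → y ∈ R) ∧ g ∈ Subgroup.closure (conjGens U R)}) :
    (groupFusionSystem (S : Subgroup G)).IsSimple p := by
  classical
  set φ : H →* G := ψ.toMonoidHom with hφ
  have hinj : Function.Injective φ := ψ.injective
  have hbij : Function.Bijective φ := ψ.bijective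
  have hS1 : (S : Subgroup G) ≠ ⊥ := fun h => hU1 ((Subgroup.map_eq_bot_iff_of_injective _ hinj).mp (hUS.trans h))
  have hsymm : ∀ y : G, φ (ψ.symm y) = y := ψ.apply_symm_apply
  refine isSimple_of_conj_generated S hS1 (fun T hT => ?_) ?_
  · obtain ⟨hTS, hcl⟩ := fusionClosed_of_stronglyClosed hT
    rcases eq_or_ne (T.comap φ) ⊥ with h | h
    · left
      rw [← Subgroup.map_comap_eq_self_of_surjective hbij.2 T, h, Subgroup.map_bot]
    · right
      refine le_antisymm hTS ?_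
      rw [← hUS, ← Subgroup.map_comap_eq_self_of_surjective hbij.2 T]
      refine Subgroup.map_mono (hsc _ (fun x hx => ?_) h fun x hx g hg => ?_)
      · obtain ⟨u, hu, he⟩ := hUS.ge (hTS hx)
        exact hinj he ▸ hu
      · show φ (g * x * g⁻¹) ∈ T
        rw [map_mul, map_mul, map_inv]
        refine hcl _ hx (φ g) ?_
        rw [← map_inv, ← map_mul, ← map_mul, ← hUS]
        exact ⟨_, hg, rfl⟩
  have hN : (Subgroup.normalizer (U : Set H)).map φ = Subgroup.normalizer ((S : Subgroup G) : Set G) := by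
    rw [Subgroup.map_normalizer_eq_of_bijective _ hbij, hUS]
  set A := ⨆ (R : Subgroup G) (_ : R ≤ (S : Subgroup G) ∧ (groupFusionSystem (S : Subgroup G)).IsCentric R),
      autInducedBy (Subgroup.closure (conjGens (S : Subgroup G) R)) (S : Subgroup G) with hA
  intro α hα
  obtain ⟨g, -, hgS, he⟩ := mem_autInducedBy_iff.mp hα
  let ρ := (S : Subgroup G).normalizerMonoidHom
  have key : Subgroup.normalizer ((S : Subgroup G) : Set G) ≤ (A.comap ρ).map
      (Subgroup.normalizer ((S : Subgroup G) : Set G)).subtype := by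
    refine hN.ge.trans ((Subgroup.map_mono hgen).trans ?_)
    rw [MonoidHom.map_closure, Subgroup.closure_le]
    rintro _ ⟨x, ⟨hxN, R, hRU, hCR, hx⟩, rfl⟩
    have hxS : φ x ∈ Subgroup.normalizer ((S : Subgroup G) : Set G) := hN ▸ ⟨x, hxN, rfl⟩
    refine ⟨⟨φ x, hxS⟩, ?_, rfl⟩
    have hR' : R.map φ ≤ (S : Subgroup G) := hUS ▸ Subgroup.map_mono hRU
    have hcen : (groupFusionSystem (S : Subgroup G)).IsCentric (R.map φ) := by
      refine ⟨hR', ?_⟩
      rintro Q ⟨f, hf, rfl⟩ y ⟨hyS, hyC⟩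
      obtain ⟨-, -, c, hc⟩ := hf
      obtain ⟨k, hk⟩ := IsPGroup.iff_orderOf.mp S.2 ⟨y, hyS⟩
      rw [Subgroup.orderOf_mk] at hk
      have hy : ψ.symm (c⁻¹ * y * c) ∈ R := by
        refine hCR _ (Subgroup.mem_centralizer_iff.mpr fun r hr => hinj ?_) ⟨k, ?_⟩
        · rw [map_mul φ r, map_mul φ _ r, hsymm]
          have h2 := Subgroup.mem_centralizer_iff.mp hyC _ (MonoidHom.mem_range.mpr ⟨⟨φ r, r, hr, rfl⟩, rfl⟩)
          rw [hc] at h2
          calc φ r * (c⁻¹ * y * c) = c⁻¹ * ((c * φ r * c⁻¹) * y) * c := by group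
            _ = c⁻¹ * (y * (c * φ r * c⁻¹)) * c := by rw [h2]
            _ = c⁻¹ * y * c * φ r := by group
        · rw [MulEquiv.orderOf_eq, ← hk, show c⁻¹ * y * c = MulAut.conj c⁻¹ y by simp, MulEquiv.orderOf_eq]
      refine MonoidHom.mem_range.mpr ⟨⟨c⁻¹ * y * c, ⟨_, hy, hsymm _⟩⟩, ?_⟩
      rw [hc]
      show c * (c⁻¹ * y * c) * c⁻¹ = y
      group
    show ρ ⟨φ x, _⟩ ∈ A
    refine Subgroup.mem_iSup_of_mem (R.map φ) (Subgroup.mem_iSup_of_mem ⟨hR', hcen⟩ ?_)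
    refine mem_autInducedBy_iff.mpr ⟨φ x, ?_, hxS, fun y => rfl⟩
    have h3 : φ x ∈ (Subgroup.closure (conjGens U R)).map φ := ⟨x, hx, rfl⟩
    rw [MonoidHom.map_closure] at h3
    refine Subgroup.closure_mono ?_ h3
    rintro _ ⟨_, ⟨m, hm, u, hu, huN, rfl⟩, rfl⟩
    exact ⟨φ m, Subgroup.le_normalizer_map _ ⟨m, hm, rfl⟩, φ u, hUS ▸ ⟨u, hu, rfl⟩,
      Subgroup.le_normalizer_map _ ⟨u, huN, rfl⟩, by simp⟩
  obtain ⟨u, hu, hug⟩ := key hgS
  have hα' : α = ρ u := by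
    refine MulEquiv.ext fun y => Subtype.ext ?_
    rw [he y, ← hug]
    rfl
  rw [hα']
  exact hu

end CfsgLib.AltFusion
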