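import Cfsg.Agent.Lib.AltFusion.Aff

/-! The elementary abelian subgroup of translations of the pairs of nested blocks, and shears. -/

set_option autoImplicit false
set_option linter.unusedSectionVars false

namespace CfsgLib.AltFusion

open Equiv
open CfsgLib.SymSylowGen (Pts baseHom liftHom)

variable {p : ℕ} [hp : Fact p.Prime] {m r m' r' : ℕ} (e1 : Pts p m' r' ≃ Fin m)

/-- A point in a pair of nested blocks. -/
abbrev P1 (i : Fin m') (β a : ZMod p) : Pts p m r := Sum.inl (e1 (Sum.inl (i, β)), a)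

/-- A point in a leftover block. -/
abbrev P2 (s : Fin r') (a : ZMod p) : Pts p m r := Sum.inl (e1 (Sum.inr s), a)

omit hp in
theorem pts_cases (x : Pts p m r) : (∃ i β a, x = P1 e1 i β a) ∨ (∃ s a, x = P2 e1 s a) ∨ ∃ j, x = Sum.inr j := by
  rcases x with ⟨k, a⟩ | j
  · obtain ⟨q, rfl⟩ := e1.surjective k
    rcases q with ⟨i, β⟩ | s
    · exact Or.inl ⟨i, β, a, rfl⟩
    · exact Or.inr (Or.inl ⟨s, a, rfl⟩)
  · exact Or.inr (Or.inr ⟨j, rfl⟩)

omit hp in
theorem perm_ext {g h : Perm (Pts p m r)} (h1 : ∀ i β a, g (P1 e1 i β a) = h (P1 e1 i β a))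
    (h2 : ∀ s a, g (P2 e1 s a) = h (P2 e1 s a)) (h3 : ∀ j, g (Sum.inr j) = h (Sum.inr j)) : g = h := by
  ext x
  rcases pts_cases e1 x with ⟨i, β, a, rfl⟩ | ⟨s, a, rfl⟩ | ⟨j, rfl⟩
  · exact h1 i β a
  · exact h2 s a
  · exact h3 j

/-- The translations. -/
def rot (t v : Fin m' → ZMod p) (w : Fin r' → ZMod p) : Perm (Pts p m r) :=
  aff p m r (e1.permCongrHom (aff p m' r' 1 1 t)) 1 (fun k => (e1.symm k).elim (fun q => v q.1) w)

theorem rot_P1 (t v : Fin m' → ZMod p) (w : Fin r' → ZMod p) (i : Fin m') (β a : ZMod p) :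
    rot (r := r) e1 t v w (P1 e1 i β a) = P1 e1 i (β + t i) (a + v i) := by
  simp [rot, P1]

theorem rot_P2 (t v : Fin m' → ZMod p) (w : Fin r' → ZMod p) (s : Fin r') (a : ZMod p) :
    rot (r := r) e1 t v w (P2 e1 s a) = P2 e1 s (a + w s) := by
  simp [rot, P2]

theorem rot_inr (t v : Fin m' → ZMod p) (w : Fin r' → ZMod p) (j : Fin r) :
    rot (r := r) e1 t v w (Sum.inr j) = Sum.inr j := rfl

theorem rot_mul (t v t' v' : Fin m' → ZMod p) (w w' : Fin r' → ZMod p) :
    rot (r := r) e1 t v w * rot e1 t' v' w' = rot e1 (t' + t) (v' + v) (w' + w) := by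
  refine perm_ext e1 (fun i β a => ?_) (fun s a => ?_) fun j => rfl
  · simp only [Perm.mul_apply, rot_P1, Pi.add_apply, add_assoc]
  · simp only [Perm.mul_apply, rot_P2, Pi.add_apply, add_assoc]

theorem rot_zero : rot (r := r) e1 0 0 0 = 1 := by
  refine perm_ext e1 (fun i β a => ?_) (fun s a => ?_) fun j => rfl
  · simp [rot_P1]
  · simp [rot_P2]

variable (r) in
/-- The group of translations. -/
def rotGroup : Subgroup (Perm (Pts p m r)) where
  carrier := {g | ∃ t v w, g = rot e1 t v w}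
  one_mem' := ⟨0, 0, 0, (rot_zero e1).symm⟩
  mul_mem' := by
    rintro _ _ ⟨t, v, w, rfl⟩ ⟨t', v', w', rfl⟩
    exact ⟨_, _, _, rot_mul e1 t v t' v' w w'⟩
  inv_mem' := by
    rintro _ ⟨t, v, w, rfl⟩
    exact ⟨-t, -v, -w, inv_eq_of_mul_eq_one_left (by rw [rot_mul, add_neg_cancel, add_neg_cancel, add_neg_cancel, rot_zero])⟩

theorem rotGroup_le_wr (W' : Subgroup (Perm (Fin m'))) :
    rotGroup r e1 ≤ wr p m r ((wr p m' r' W').map e1.permCongrHom.toMonoidHom) := by
  rintro _ ⟨t, v, w, rfl⟩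
  exact ⟨_, Subgroup.mem_map_of_mem _ ⟨1, one_mem _, t, rfl⟩, _, rfl⟩

/-- The translations are their own centralizer. -/
theorem mem_rotGroup_of_comm (hr : r ≤ 1) {y : Perm (Pts p m r)} (h : ∀ g ∈ rotGroup r e1, y * g = g * y) :
    y ∈ rotGroup r e1 := by
  classical
  have hc : ∀ t v w x, y (rot e1 t v w x) = rot e1 t v w (y x) := fun t v w x =>
    congrArg (fun q : Perm (Pts p m r) => q x) (h _ ⟨t, v, w, rfl⟩)
  have hmov : ∀ t v w x, rot e1 t v w x ≠ x → rot e1 t v w (y x) ≠ y x := fun t v w x hx e =>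
    hx (y.injective ((hc t v w x).trans e))
  have hP1 : ∀ i, ∃ β a, y (P1 e1 i 0 0) = P1 e1 i β a := by
    intro i
    have := hmov 0 (Pi.single i 1) 0 (P1 e1 i 0 0) (by simp [rot_P1, P1])
    rcases pts_cases e1 (y (P1 e1 i 0 0)) with ⟨i', β, a, hy⟩ | ⟨s, a, hy⟩ | ⟨j, hy⟩
    · by_cases hii : i' = i
      · exact ⟨β, a, hii ▸ hy⟩
      · exact absurd (by rw [hy]; simp [rot_P1, Pi.single_eq_of_ne hii]) this
    · exact absurd (by rw [hy]; simp [rot_P2]) this
    · exact absurd (by rw [hy, rot_inr]) this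
  have hP2 : ∀ s, ∃ a, y (P2 e1 s 0) = P2 e1 s a := by
    intro s
    have := hmov 0 0 (Pi.single s 1) (P2 e1 s 0) (by simp [rot_P2, P2])
    rcases pts_cases e1 (y (P2 e1 s 0)) with ⟨i', β, a, hy⟩ | ⟨s', a, hy⟩ | ⟨j, hy⟩
    · exact absurd (by rw [hy]; simp [rot_P1]) this
    · by_cases hss : s' = s
      · exact ⟨a, hss ▸ hy⟩
      · exact absurd (by rw [hy]; simp [rot_P2, Pi.single_eq_of_ne hss]) this
    · exact absurd (by rw [hy, rot_inr]) this
  choose t v h1 using hP1
  choose w h2 using hP2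
  have e1' : ∀ i β a, y (P1 e1 i β a) = rot e1 t v w (P1 e1 i β a) := by
    intro i β a
    have := hc (Pi.single i β) (Pi.single i a) 0 (P1 e1 i 0 0)
    rw [rot_P1, h1, rot_P1] at this
    simp only [Pi.single_eq_same, zero_add] at this
    rw [this, rot_P1, add_comm (t i), add_comm (v i)]
  have e2' : ∀ s a, y (P2 e1 s a) = rot e1 t v w (P2 e1 s a) := by
    intro s a
    have := hc 0 0 (Pi.single s a) (P2 e1 s 0)
    rw [rot_P2, h2, rot_P2] at this
    simp only [Pi.single_eq_same, zero_add] at this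
    rw [this, rot_P2, add_comm (w s)]
  refine ⟨t, v, w, perm_ext e1 e1' e2' fun j => ?_⟩
  rw [rot_inr]
  rcases hj : y (Sum.inr j) with ⟨k, a⟩ | j'
  · exfalso
    rcases pts_cases e1 (Sum.inl (k, a) : Pts p m r) with ⟨i, β, b, hx⟩ | ⟨s, b, hx⟩ | ⟨l, hx⟩
    · obtain ⟨x, hx'⟩ : ∃ x, rot e1 t v w x = (Sum.inl (k, a) : Pts p m r) := (rot e1 t v w).surjective _
      rcases pts_cases e1 x with ⟨i₀, β₀, b₀, rfl⟩ | ⟨s₀, b₀, rfl⟩ | ⟨l₀, rfl⟩
      · rw [← e1', ← hj] at hx'; exact absurd (y.injective hx') (by simp [P1])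
      · rw [← e2', ← hj] at hx'; exact absurd (y.injective hx') (by simp [P2])
      · rw [rot_inr] at hx'; simp at hx'
    · obtain ⟨x, hx'⟩ : ∃ x, rot e1 t v w x = (Sum.inl (k, a) : Pts p m r) := (rot e1 t v w).surjective _
      rcases pts_cases e1 x with ⟨i₀, β₀, b₀, rfl⟩ | ⟨s₀, b₀, rfl⟩ | ⟨l₀, rfl⟩
      · rw [← e1', ← hj] at hx'; exact absurd (y.injective hx') (by simp [P1])
      · rw [← e2', ← hj] at hx'; exact absurd (y.injective hx') (by simp [P2])
      · rw [rot_inr] at hx'; simp at hx'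
    · simp at hx
  · have : Subsingleton (Fin r) := Fin.subsingleton_iff_le_one.mpr hr
    rw [Subsingleton.elim j' j]

omit hp in
/-- The decomposition of the points. -/
def decomp : (Fin m' × (ZMod p × ZMod p)) ⊕ ((Fin r' × ZMod p) ⊕ Fin r) ≃ Pts p m r :=
  (Equiv.sumAssoc _ _ _).symm.trans (Equiv.sumCongr
    (((Equiv.prodAssoc _ _ _).symm.sumCongr (Equiv.refl _)).trans
      ((Equiv.sumProdDistrib _ _ _).symm.trans (Equiv.prodCongr e1 (Equiv.refl _)))) (Equiv.refl _))

variable (r) in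
/-- The permutations acting inside the pairs of nested blocks. -/
def bl : (Fin m' → Perm (ZMod p × ZMod p)) →* Perm (Pts p m r) where
  toFun φ := (decomp e1).permCongr (Equiv.sumCongr (Equiv.prodCongrRight φ) (Equiv.refl _))
  map_one' := by
    refine Equiv.ext fun x => ?_
    obtain ⟨q, rfl⟩ := (decomp (r := r) e1).surjective x
    simp only [Equiv.permCongr_apply, Equiv.symm_apply_apply, Perm.one_apply]
    rcases q with ⟨i, q⟩ | q <;> rfl
  map_mul' φ ψ := by
    refine Equiv.ext fun x => ?_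
    obtain ⟨q, rfl⟩ := (decomp (r := r) e1).surjective x
    simp only [Equiv.permCongr_apply, Equiv.symm_apply_apply, Perm.mul_apply]
    rcases q with ⟨i, q⟩ | q <;> rfl

theorem bl_P1 (φ : Fin m' → Perm (ZMod p × ZMod p)) (i : Fin m') (β a : ZMod p) :
    bl r e1 φ (P1 e1 i β a) = P1 e1 i (φ i (β, a)).1 (φ i (β, a)).2 := by
  show (decomp (r := r) e1).permCongr _ (decomp e1 (Sum.inl (i, (β, a)))) = _
  simp only [Equiv.permCongr_apply, Equiv.symm_apply_apply]
  rfl

theorem bl_P2 (φ : Fin m' → Perm (ZMod p × ZMod p)) (s : Fin r') (a : ZMod p) :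
    bl r e1 φ (P2 e1 s a) = P2 e1 s a := by
  show (decomp (r := r) e1).permCongr _ (decomp e1 (Sum.inr (Sum.inl (s, a)))) = _
  simp only [Equiv.permCongr_apply, Equiv.symm_apply_apply]
  rfl

theorem bl_inr (φ : Fin m' → Perm (ZMod p × ZMod p)) (j : Fin r) :
    bl r e1 φ (Sum.inr j) = Sum.inr j := by
  show (decomp (r := r) e1).permCongr _ (decomp e1 (Sum.inr (Sum.inr j))) = _
  simp only [Equiv.permCongr_apply, Equiv.symm_apply_apply]
  rfl

/-- Additive maps normalize the translations. -/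
theorem bl_mem_normalizer {φ : Fin m' → Perm (ZMod p × ZMod p)} (h : ∀ i x y, φ i (x + y) = φ i x + φ i y) :
    bl r e1 φ ∈ Subgroup.normalizer (rotGroup r e1 : Set (Perm (Pts p m r))) := by
  refine mem_normalizer_of_mul ?_
  rintro _ ⟨t, v, w, rfl⟩
  refine ⟨rot e1 (fun i => (φ i (t i, v i)).1) (fun i => (φ i (t i, v i)).2) w, ⟨_, _, _, rfl⟩, ?_⟩
  refine perm_ext e1 (fun i β a => ?_) (fun s a => ?_) fun j => ?_
  · simp only [Perm.mul_apply, rot_P1, bl_P1]
    rw [show (β + t i, a + v i) = (β, a) + (t i, v i) from rfl, h]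
    rfl
  · simp only [Perm.mul_apply, rot_P2, bl_P2]
  · simp only [Perm.mul_apply, rot_inr, bl_inr]

/-- Shears. -/
def shX (s : Fin m' → ZMod p) : Fin m' → Perm (ZMod p × ZMod p) := fun i =>
  { toFun := fun q => (q.1, q.2 + s i * q.1)
    invFun := fun q => (q.1, q.2 - s i * q.1)
    left_inv := fun q => by simp
    right_inv := fun q => by simp }

/-- Shears. -/
def shY (s : Fin m' → ZMod p) : Fin m' → Perm (ZMod p × ZMod p) := fun i =>
  { toFun := fun q => (q.1 + s i * q.2, q.2)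
    invFun := fun q => (q.1 - s i * q.2, q.2)
    left_inv := fun q => by simp
    right_inv := fun q => by simp }

theorem shX_apply (s : Fin m' → ZMod p) (i : Fin m') (q : ZMod p × ZMod p) : shX s i q = (q.1, q.2 + s i * q.1) := rfl

theorem shY_apply (s : Fin m' → ZMod p) (i : Fin m') (q : ZMod p × ZMod p) : shY s i q = (q.1 + s i * q.2, q.2) := rfl

theorem shX_pow (s : Fin m' → ZMod p) : shX s ^ p = 1 := by
  have h : ∀ k : ℕ, ∀ i q, (shX s ^ k) i q = (q.1, q.2 + k * (s i * q.1)) := by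
    intro k
    induction k with
    | zero => simp
    | succ k ih =>
      intro i q
      simp only [pow_succ, Pi.mul_apply, Perm.mul_apply, shX_apply, ih]
      push_cast
      ext <;> ring
  funext i
  refine Equiv.ext fun q => ?_
  rw [h]
  simp

theorem shY_pow (s : Fin m' → ZMod p) : shY s ^ p = 1 := by
  have h : ∀ k : ℕ, ∀ i q, (shY s ^ k) i q = (q.1 + k * (s i * q.2), q.2) := by
    intro k
    induction k with
    | zero => simp
    | succ k ih =>
      intro i q
      simp only [pow_succ, Pi.mul_apply, Perm.mul_apply, shY_apply, ih]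
      push_cast
      ext <;> ring
  funext i
  refine Equiv.ext fun q => ?_
  rw [h]
  simp

variable (p m') in
/-- The quarter turn. -/
def turn : Fin m' → Perm (ZMod p × ZMod p) := shX (-1) * shY 1 * shX (-1)

theorem turn_apply (i : Fin m') (q : ZMod p × ZMod p) : turn p m' i q = (q.2, -q.1) := by
  simp only [turn, Pi.mul_apply, Perm.mul_apply, shX_apply, shY_apply, Pi.neg_apply, Pi.one_apply]
  ext <;> ring

theorem shY_eq (s : Fin m' → ZMod p) : shY s = turn p m' * shX (-s) * (turn p m')⁻¹ := by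
  rw [eq_mul_inv_iff_mul_eq]
  funext i
  refine Equiv.ext fun q => ?_
  simp only [Pi.mul_apply, Perm.mul_apply, shX_apply, shY_apply, turn_apply, Pi.neg_apply]
  ext <;> ring

/-- The diagonal maps. -/
def dia (c : Fin m' → (ZMod p)ˣ) : Fin m' → Perm (ZMod p × ZMod p) :=
  shX (fun i => (c i : ZMod p)) * shY (fun i => -(((c i)⁻¹ : (ZMod p)ˣ) : ZMod p)) * shX (fun i => (c i : ZMod p)) * turn p m'

theorem dia_apply (c : Fin m' → (ZMod p)ˣ) (i : Fin m') (q : ZMod p × ZMod p) :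
    dia c i q = (((c i)⁻¹ : (ZMod p)ˣ) * q.1, c i * q.2) := by
  have h : (((c i)⁻¹ : (ZMod p)ˣ) : ZMod p) * c i = 1 := Units.inv_mul _
  simp only [dia, Pi.mul_apply, Perm.mul_apply, shX_apply, shY_apply, turn_apply]
  refine Prod.ext ?_ ?_
  · linear_combination (-q.2) * h
  · linear_combination ((c i : ZMod p) * -q.2 + q.1) * h

/-- The shears are translations along the base. -/
theorem bl_shX_mem_wr (W' : Subgroup (Perm (Fin m'))) (s : Fin m' → ZMod p) :
    bl r e1 (shX s) ∈ wr p m r ((wr p m' r' W').map e1.permCongrHom.toMonoidHom) := by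
  refine ⟨1, one_mem _, fun k => (e1.symm k).elim (fun q => s q.1 * q.2) (fun _ => 0), ?_⟩
  refine perm_ext e1 (fun i β a => ?_) (fun s' a => ?_) fun j => ?_
  · simp [bl_P1, shX_apply, P1]
  · simp [bl_P2, P2]
  · simp [bl_inr]

end CfsgLib.AltFusion
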