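import Cfsg.Agent.Lib.AltFusion.Closed
import Cfsg.Agent.Lib.AltFusion.Criterion
import Cfsg.Agent.Lib.SymSylow

/-! The model of the alternating group on blocks, and the case `p = 2`. -/

set_option autoImplicit false

namespace CfsgLib.AltFusion

open Equiv
open CfsgLib.SymSylowGen (Pts baseHom liftHom lift_conj_base baseHom_pow sign_liftHom GenByExp)

variable (p : ℕ) [hp : Fact p.Prime]

/-- A convenient isomorphism onto the given alternating group sending a chosen Sylow subgroup to the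
given one. -/
theorem exists_equiv {β : Type*} [Fintype β] [DecidableEq β] {n : ℕ} (e : β ≃ Fin n)
    (U : Sylow p (alternatingGroup β)) (S : Sylow p (alternatingGroup (Fin n))) :
    ∃ ψ : alternatingGroup β ≃* alternatingGroup (Fin n),
      (U : Subgroup (alternatingGroup β)).map ψ.toMonoidHom = (S : Subgroup (alternatingGroup (Fin n))) := by
  let ψ₀ := Equiv.altCongrHom e
  let U' : Sylow p (alternatingGroup (Fin n)) := U.mapSurjective (f := ψ₀.toMonoidHom) ψ₀.surjective
  obtain ⟨g, hg⟩ := MulAction.exists_smul_eq (alternatingGroup (Fin n)) U' S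
  refine ⟨ψ₀.trans (MulAut.conj g), ?_⟩
  rw [← hg, Sylow.coe_subgroup_smul]
  ext y
  constructor
  · rintro ⟨u, hu, rfl⟩
    exact ⟨ψ₀ u, ⟨u, hu, rfl⟩, rfl⟩
  · rintro ⟨_, ⟨u, hu, rfl⟩, rfl⟩
    exact ⟨u, hu, rfl⟩

theorem normal_base (m r : ℕ) (w : Perm (Fin m)) :
    liftHom p m r w ∈ Subgroup.normalizer ((baseHom p m r).range : Set (Perm (Pts p m r))) := by
  rw [Subgroup.mem_normalizer_iff]
  intro x
  constructor
  · rintro ⟨f, rfl⟩
    exact ⟨Multiplicative.ofAdd (f.toAdd ∘ w.symm), by rw [lift_conj_base, mul_inv_cancel_right]⟩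
  · rintro ⟨f, hf⟩
    refine ⟨Multiplicative.ofAdd (f.toAdd ∘ w), ?_⟩
    have h := lift_conj_base p m r w (Multiplicative.ofAdd (f.toAdd ∘ w))
    simp only [toAdd_ofAdd, Function.comp_assoc, Equiv.self_comp_symm, Function.comp_id, ofAdd_toAdd] at h
    rw [hf, inv_mul_cancel_right] at h
    exact mul_left_cancel h

theorem isSimple_two (n : ℕ) (hn : 6 ≤ n) (S : Sylow 2 (alternatingGroup (Fin n))) :
    (Cfsg.groupFusionSystem (S : Subgroup (alternatingGroup (Fin n)))).IsSimple 2 := by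
  classical
  set m := n / 2 with hm
  set r := n % 2 with hr
  have hm3 : 3 ≤ m := by omega
  obtain ⟨e⟩ : Nonempty (Pts 2 m r ≃ Fin n) := ⟨Fintype.equivFinOfCardEq (by
    simp only [Pts, Fintype.card_sum, Fintype.card_prod, Fintype.card_fin, ZMod.card]
    exact Nat.div_add_mod' n 2)⟩
  let σ : Perm (Pts 2 m r) := liftHom 2 m r (swap ⟨0, by omega⟩ ⟨1, by omega⟩)
  have hσ2 : σ ^ 2 = 1 := by rw [← map_pow, sq, swap_mul_self, map_one]
  have hP : IsPGroup 2 ↥((baseHom 2 m r).range ⊔ Subgroup.zpowers σ) := by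
    refine IsPGroup.to_sup_of_normal_left' (fun x => ?_) ?_ (Subgroup.zpowers_le.mpr (normal_base 2 m r _))
    · obtain ⟨f, hf⟩ := x.2
      exact ⟨1, Subtype.ext (by rw [SubmonoidClass.coe_pow, pow_one, ← hf, baseHom_pow]; rfl)⟩
    · intro x
      obtain ⟨k, hk⟩ := x.2
      refine ⟨1, Subtype.ext ?_⟩
      rw [SubmonoidClass.coe_pow, pow_one, ← hk, OneMemClass.coe_one]
      show (σ ^ k) ^ 2 = 1
      rw [← zpow_natCast, ← zpow_mul, mul_comm, zpow_mul, zpow_natCast, hσ2, one_zpow]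
  obtain ⟨U, hU⟩ := (hP.comap_subtype (K := alternatingGroup (Pts 2 m r))).exists_le_sylow
  obtain ⟨ψ, hψ⟩ := exists_equiv 2 e U S
  have hgenU : GenByExp 2 (U : Subgroup (alternatingGroup (Pts 2 m r))) := by
    have h := (CfsgLib.SymSylowGen.genByExp_alternating 2 n S).map ψ.symm.toMonoidHom
    rwa [← hψ, Subgroup.map_map, show ψ.symm.toMonoidHom.comp ψ.toMonoidHom = MonoidHom.id _ from
      MonoidHom.ext fun x => ψ.symm_apply_apply x, Subgroup.map_id] at h
  have hU1 : (U : Subgroup (alternatingGroup (Pts 2 m r))) ≠ ⊥ := fun h => by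
    have hs : Perm.sign σ = 1 := by rw [sign_liftHom, sq, Int.units_mul_self]
    have h1 : (⟨σ, hs⟩ : alternatingGroup (Pts 2 m r)) ∈ (U : Subgroup (alternatingGroup (Pts 2 m r))) :=
      hU (Subgroup.mem_sup_right (Subgroup.mem_zpowers σ))
    rw [h, Subgroup.mem_bot] at h1
    have h2 := congrArg (fun g : Perm (Pts 2 m r) => g (Sum.inl (⟨0, by omega⟩, 0))) (congrArg Subtype.val h1)
    simp [σ, CfsgLib.SymSylowGen.liftHom_inl] at h2
  refine isSimple_of_equiv ψ S _ hψ hU1 (fun T hTU hT hcl => ?_) ?_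
  · refine le_trans hgenU ((Subgroup.closure_le _).mpr ?_)
    rintro x ⟨hx, hxp⟩
    refine closed_mem 2 hm3 (Nat.mod_lt n two_pos) _ T U.2 (fun f h => hU (Subgroup.mem_sup_left ⟨f, rfl⟩))
      (fun _ i j hi hj h => hU (Subgroup.mem_sup_right ?_)) hTU hT hcl x hx hxp
    show liftHom 2 m r (swap i j) ∈ Subgroup.zpowers σ
    rw [show i = ⟨0, by omega⟩ from Fin.ext hi, show j = ⟨1, by omega⟩ from Fin.ext hj]
    exact Subgroup.mem_zpowers σ
  · have hN := CfsgLib.SymSylow.normalizer_sylow_alternating (α := Pts 2 m r) (by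
      simp only [Pts, Fintype.card_sum, Fintype.card_prod, Fintype.card_fin, ZMod.card]
      omega) U
    intro g hg
    refine Subgroup.subset_closure ⟨hg, _, le_rfl, fun y hy ⟨k, hk⟩ => ?_, Subgroup.subset_closure ?_⟩
    · rw [← hN]
      refine Subgroup.mem_normalizer_iff.mpr fun u => ?_
      have hc : ∀ w ∈ (U : Subgroup (alternatingGroup (Pts 2 m r))), y * w * y⁻¹ = w := fun w hw => by
        rw [← Subgroup.mem_centralizer_iff.mp hy w hw, mul_inv_cancel_right]
      exact ⟨fun h => (hc u h).symm ▸ h, fun h => by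
        have e := hc _ h
        have : y * u * y⁻¹ = u := mul_left_cancel (mul_right_cancel e)
        exact this ▸ h⟩
    · rw [hN] at hg
      exact ⟨1, one_mem _, g, hg, Subgroup.le_normalizer hg, by simp⟩

end CfsgLib.AltFusion
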