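import Cfsg.Agent.Lib.AltFusion.Model2
import Cfsg.Agent.Lib.AltFusion.TwoCase

/-! The fusion systems of alternating groups at odd primes. -/

set_option autoImplicit false
set_option linter.unusedSectionVars false

namespace CfsgLib.AltFusion

open Equiv
open CfsgLib.SymSylowGen (Pts baseHom liftHom baseHom_pow sign_liftHom GenByExp)

variable {p : ℕ} [hp : Fact p.Prime] {m r m' r' : ℕ}

/-- `p`-th powers of scalars. -/
theorem units_pow_p (c : (ZMod p)ˣ) : c ^ p = c := Units.ext (by rw [Units.val_pow_eq_pow_val, ZMod.pow_card])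

/-- A weight for the nested blocks with product `c`. -/
theorem exists_weight {W' : Subgroup (Perm (Fin m'))} (hW : IsPGroup p W') (hm' : 0 < m') (c : (ZMod p)ˣ) :
    ∃ f : Fin m' → (ZMod p)ˣ, (∀ π ∈ W', ∀ i, f (π i) = f i) ∧ ∏ i, f i = c := by
  classical
  let O : Set (Fin m') := MulAction.orbit W' (⟨0, hm'⟩ : Fin m')
  refine ⟨fun i => if i ∈ O then c else 1, fun π hπ i => ?_, ?_⟩
  · have : π i ∈ O ↔ i ∈ O := by
      constructor
      · rintro ⟨w, hw⟩
        refine ⟨(⟨π, hπ⟩ : W')⁻¹ * w, ?_⟩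
        show ((⟨π, hπ⟩ : W')⁻¹ * w) • (⟨0, hm'⟩ : Fin m') = i
        rw [mul_smul, show w • (⟨0, hm'⟩ : Fin m') = (⟨π, hπ⟩ : W') • i from hw, inv_smul_smul]
      · rintro ⟨w, hw⟩
        refine ⟨(⟨π, hπ⟩ : W') * w, ?_⟩
        show ((⟨π, hπ⟩ : W') * w) • (⟨0, hm'⟩ : Fin m') = π i
        rw [mul_smul, show w • (⟨0, hm'⟩ : Fin m') = i from hw]
        rfl
    simp only [this]
  · rw [← Finset.prod_filter, Finset.prod_const]
    obtain ⟨k, hk⟩ := hW.card_orbit (⟨0, hm'⟩ : Fin m')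
    rw [show (Finset.univ.filter fun i => i ∈ O).card = p ^ k by
      rw [← hk, Nat.card_eq_fintype_card, ← Set.toFinset_card]; exact congrArg _ (by ext; simp [O])]
    clear hk
    induction k with
    | zero => rw [pow_zero, pow_one]
    | succ k ih => rw [pow_succ, pow_mul, ih, units_pow_p]

/-- A scalar element of the normalizer of the nested Sylow subgroup. -/
theorem exists_dia (e1 : Pts p m' r' ≃ Fin m) {W' : Subgroup (Perm (Fin m'))} (hW : IsPGroup p W') (hm' : 0 < m')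
    (c : (ZMod p)ˣ) :
    ∃ ci : Fin m' → (ZMod p)ˣ, ∃ π u, bl r e1 (dia ci) = aff p m r π u 0 ∧ (∏ k, u k) = c ∧
      bl r e1 (dia ci) ∈ Subgroup.normalizer
        (wr p m r ((wr p m' r' W').map e1.permCongrHom.toMonoidHom) : Set (Perm (Pts p m r))) := by
  classical
  obtain ⟨f, hf, hprod⟩ := exists_weight hW hm' c
  set W2 := (wr p m' r' W').map e1.permCongrHom.toMonoidHom with hW2
  let π : Perm (Fin m) := e1.permCongrHom (aff p m' r' 1 (fun i => (f i)⁻¹) 0)
  let u : Fin m → (ZMod p)ˣ := fun k => (e1.symm k).elim (fun q => f q.1) (fun _ => 1)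
  have he : bl r e1 (dia f) = aff p m r π u 0 := by
    refine perm_ext e1 (fun i β a => ?_) (fun s a => ?_) fun j => ?_
    · simp [bl_P1, dia_apply, P1, π, u, -Units.val_inv_eq_inv_val]
    · simp [bl_P2, P2, π, u]
    · simp [bl_inr]
  refine ⟨f, π, u, he, ?_, ?_⟩
  · rw [← Equiv.prod_comp e1 u, Fintype.prod_sum_type]
    simp only [u, Equiv.symm_apply_apply, Sum.elim_inl, Sum.elim_inr, Finset.prod_const_one, mul_one]
    rw [Fintype.prod_prod_type]
    simp only [Finset.prod_const, Finset.card_univ, ZMod.card, units_pow_p]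
    exact hprod
  · rw [he]
    refine aff_mem_normalizer_wr ?_ ?_
    · refine mem_normalizer_of_mul ?_
      rintro _ ⟨x, hx, rfl⟩
      have hN := aff_mem_normalizer_wr (r := r') (π₀ := 1) (u := fun i => (f i)⁻¹)
        (one_mem (Subgroup.normalizer (W' : Set (Perm (Fin m'))))) (fun π hπ i => congrArg Inv.inv (hf π hπ i))
      refine ⟨_, Subgroup.mem_map_of_mem _ ((Subgroup.mem_normalizer_iff.mp hN x).mp hx), ?_⟩
      show e1.permCongrHom _ * e1.permCongrHom x = e1.permCongrHom _ * e1.permCongrHom _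
      rw [← map_mul, ← map_mul, inv_mul_cancel_right]
    · rintro _ ⟨x, ⟨π', hπ', v', rfl⟩, rfl⟩ k
      obtain ⟨q, rfl⟩ := e1.surjective k
      rcases q with ⟨i, β⟩ | s
      · simp [u, hf π' hπ' i]
      · simp [u]

section Local

variable (U R : Subgroup (alternatingGroup (Pts p m r)))

/-- The permutations generated locally at `R`. -/
def localPerm : Subgroup (Perm (Pts p m r)) :=
  (Subgroup.closure (conjGens U R)).map (alternatingGroup (Pts p m r)).subtype

/-- Passing to the ambient alternating group. -/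
theorem mem_closure_of_localPerm {x : alternatingGroup (Pts p m r)} (h : x.1 ∈ localPerm U R) :
    x ∈ Subgroup.closure (conjGens U R) := by
  obtain ⟨y, hy, e⟩ := h
  rwa [← Subtype.ext (show y.1 = x.1 from e)]

end Local

/-- Elements of `p`-power order normalizing a normal subgroup of a Sylow group are conjugates. -/
theorem mem_conjGens_of_pow {G : Type*} [Group G] [Finite G] (U : Sylow p G) {R : Subgroup G}
    (hUR : (U : Subgroup G) ≤ Subgroup.normalizer (R : Set G)) {y : G} (hy : y ∈ Subgroup.normalizer (R : Set G))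
    {k : ℕ} (hk : y ^ p ^ k = 1) : y ∈ conjGens (U : Subgroup G) R := by
  set N := Subgroup.normalizer (R : Set G) with hN
  have hP : IsPGroup p (Subgroup.zpowers (⟨y, hy⟩ : N)) := fun x => by
    obtain ⟨j, hj⟩ := x.2
    have h1 : (⟨y, hy⟩ : N) ^ p ^ k = 1 := Subtype.ext hk
    refine ⟨k, Subtype.ext ?_⟩
    rw [SubmonoidClass.coe_pow, ← hj, OneMemClass.coe_one]
    show ((⟨y, hy⟩ : N) ^ j) ^ p ^ k = 1
    rw [← zpow_natCast, ← zpow_mul, mul_comm, zpow_mul, zpow_natCast, h1, one_zpow]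
  obtain ⟨Q, hQ⟩ := hP.exists_le_sylow
  obtain ⟨a, ha⟩ := MulAction.exists_smul_eq N (U.subtype hUR) Q
  have hmem := hQ (Subgroup.mem_zpowers (⟨y, hy⟩ : N))
  rw [← ha, Sylow.coe_subgroup_smul] at hmem
  obtain ⟨u, hu, e⟩ := hmem
  exact ⟨a, a.2, u, hu, u.2, (congrArg Subtype.val e).symm⟩

variable (p) in
/-- The case of an odd prime. -/
theorem isSimple_odd (n : ℕ) (hp2 : p ≠ 2) (hnp : p ^ 2 ≤ n) (hb : n % p ≤ 1)
    (S : Sylow p (alternatingGroup (Fin n))) :
    (Cfsg.groupFusionSystem (S : Subgroup (alternatingGroup (Fin n)))).IsSimple p := by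
  classical
  have hp3 : 3 ≤ p := by have := hp.out.two_le; omega
  obtain ⟨m, hm⟩ : ∃ m, m = n / p := ⟨_, rfl⟩
  obtain ⟨r, hr⟩ : ∃ r, r = n % p := ⟨_, rfl⟩
  obtain ⟨m', hm'⟩ : ∃ m', m' = m / p := ⟨_, rfl⟩
  obtain ⟨r', hr'⟩ : ∃ r', r' = m % p := ⟨_, rfl⟩
  have hpm : p ≤ m := by rw [hm, Nat.le_div_iff_mul_le hp.out.pos, ← sq]; exact hnp
  have hm'0 : 0 < m' := by rw [hm']; exact Nat.div_pos hpm hp.out.pos
  have hr'p : r' < p := hr' ▸ Nat.mod_lt _ hp.out.pos
  have hrp : r < p := hr ▸ Nat.mod_lt _ hp.out.pos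
  have hr1 : r ≤ 1 := hr ▸ hb
  have hn : n = m * p + r := by rw [hm, hr]; exact (Nat.div_add_mod' n p).symm
  have hmm : m = m' * p + r' := by rw [hm', hr']; exact (Nat.div_add_mod' m p).symm
  obtain ⟨e⟩ : Nonempty (Pts p m r ≃ Fin n) := ⟨Fintype.equivFinOfCardEq (by
    simp only [Pts, Fintype.card_sum, Fintype.card_prod, Fintype.card_fin, ZMod.card]; exact hn.symm)⟩
  obtain ⟨e1⟩ : Nonempty (Pts p m' r' ≃ Fin m) := ⟨Fintype.equivFinOfCardEq (by
    simp only [Pts, Fintype.card_sum, Fintype.card_prod, Fintype.card_fin, ZMod.card]; exact hmm.symm)⟩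
  -- the Sylow subgroup
  obtain ⟨P'⟩ : Nonempty (Sylow p (Perm (Fin m'))) := inferInstance
  set W' : Subgroup (Perm (Fin m')) := (P' : Subgroup (Perm (Fin m'))) with hW'
  have hW'c : Nat.card W' = p ^ padicValNat p m'.factorial := by
    rw [hW', P'.card_eq_multiplicity, Nat.card_perm, Nat.card_fin, Nat.factorization_def _ hp.out]
  set W2 := (wr p m' r' W').map e1.permCongrHom.toMonoidHom with hW2
  have hW2p : IsPGroup p W2 := (isPGroup_wr P'.2).map _
  have hW2c : Nat.card W2 = p ^ padicValNat p m.factorial := by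
    rw [hW2, Subgroup.card_map_of_injective e1.permCongrHom.injective]
    exact card_wr P'.2 hW'c hmm hr'p
  set W1 := wr p m r W2 with hW1
  set U₀ := W1.comap (alternatingGroup (Pts p m r)).subtype with hU₀
  have hW1A : W1 ≤ alternatingGroup (Pts p m r) := fun x hx => sign_eq_one_of_isPGroup hp2 (isPGroup_wr hW2p) hx
  have hU₀p : IsPGroup p U₀ := (isPGroup_wr hW2p).comap_subtype
  have hU₀c : Nat.card U₀ = p ^ padicValNat p n.factorial := by
    rw [hU₀, ← Subgroup.subgroupOf, Nat.card_congr (Subgroup.subgroupOfEquivOfLe hW1A).toEquiv]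
    exact card_wr hW2p hW2c hn hrp
  obtain ⟨U, hU⟩ := hU₀p.exists_le_sylow
  have hUU : U₀ = (U : Subgroup (alternatingGroup (Pts p m r))) := by
    refine Subgroup.eq_of_le_of_card_ge hU ?_
    obtain ⟨k, hk⟩ := IsPGroup.iff_card.mp U.2
    rw [hU₀c, hk]
    refine Nat.pow_le_pow_right hp.out.pos ((padicValNat_dvd_iff_le n.factorial_ne_zero).1 ?_)
    have h1 : Nat.card (Perm (Pts p m r)) = n.factorial := by
      rw [Nat.card_congr e.permCongr, Nat.card_perm, Nat.card_fin]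
    rw [← hk, ← h1]
    exact (Subgroup.card_subgroup_dvd_card _).trans (Subgroup.card_subgroup_dvd_card _)
  have hmemU : ∀ {x : alternatingGroup (Pts p m r)}, x ∈ (U : Subgroup (alternatingGroup (Pts p m r))) ↔ x.1 ∈ W1 :=
    fun {x} => hUU ▸ Iff.rfl
  obtain ⟨ψ, hψ⟩ := exists_equiv p e U S
  have hgenU : GenByExp p (U : Subgroup (alternatingGroup (Pts p m r))) := by
    have h := (CfsgLib.SymSylowGen.genByExp_alternating p n S).map ψ.symm.toMonoidHom
    rwa [← hψ, Subgroup.map_map, show ψ.symm.toMonoidHom.comp ψ.toMonoidHom = MonoidHom.id _ from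
      MonoidHom.ext fun x => ψ.symm_apply_apply x, Subgroup.map_id] at h
  have hbs : ∀ f, Perm.sign (baseHom p m r f) = 1 := fun f => hW1A (base_mem_wr W2 f)
  have hU1 : (U : Subgroup (alternatingGroup (Pts p m r))) ≠ ⊥ := fun h => by
    have h1 := (hmemU (x := ⟨baseHom p m r (Multiplicative.ofAdd (Pi.single ⟨0, by omega⟩ 1)), hbs _⟩)).mpr
      (base_mem_wr W2 _)
    rw [h, Subgroup.mem_bot] at h1
    have h2 := congrArg (fun g : Perm (Pts p m r) => g (Sum.inl (⟨0, by omega⟩, 0))) (congrArg Subtype.val h1)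
    simp [CfsgLib.SymSylowGen.baseHom_inl] at h2
  refine isSimple_of_equiv ψ S _ hψ hU1 (fun T hTU hT hcl => ?_) ?_
  · refine le_trans hgenU ((Subgroup.closure_le _).mpr ?_)
    rintro x ⟨hx, hxp⟩
    exact closed_mem p (by omega) hrp _ T U.2 (fun f h => hmemU.mpr (base_mem_wr W2 f))
      (fun h2 => absurd h2 hp2) hTU hT hcl x hx hxp
  -- the normalizer of the Sylow subgroup
  let R1 : Subgroup (alternatingGroup (Pts p m r)) := (baseHom p m r).range.comap (alternatingGroup (Pts p m r)).subtype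
  let R2 : Subgroup (alternatingGroup (Pts p m r)) := (rotGroup r e1).comap (alternatingGroup (Pts p m r)).subtype
  have hR1U : R1 ≤ (U : Subgroup (alternatingGroup (Pts p m r))) := by
    rintro x ⟨f, hf⟩
    exact hmemU.mpr (show x.1 ∈ W1 from (show baseHom p m r f = x.1 from hf) ▸ base_mem_wr W2 f)
  have hR2U : R2 ≤ (U : Subgroup (alternatingGroup (Pts p m r))) := fun x hx => hmemU.mpr (rotGroup_le_wr e1 W' hx)
  have hnormA : ∀ (R : Subgroup (Perm (Pts p m r))) (x : alternatingGroup (Pts p m r)),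
      x.1 ∈ Subgroup.normalizer (R : Set (Perm (Pts p m r))) →
      x ∈ Subgroup.normalizer ((R.comap (alternatingGroup (Pts p m r)).subtype) : Set (alternatingGroup (Pts p m r))) :=
    fun R x hx => Subgroup.mem_normalizer_iff.mpr fun y => Subgroup.mem_normalizer_iff.mp hx y.1
  have hC1 : ∀ y : alternatingGroup (Pts p m r), y ∈ Subgroup.centralizer (R1 : Set (alternatingGroup (Pts p m r))) →
      (∃ k : ℕ, orderOf y = p ^ k) → y ∈ R1 := fun y hy _ => exists_base_of_comm hr1 fun f =>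
    (congrArg Subtype.val (Subgroup.mem_centralizer_iff.mp hy ⟨baseHom p m r f, hbs f⟩ ⟨f, rfl⟩)).symm
  have hC2 : ∀ y : alternatingGroup (Pts p m r), y ∈ Subgroup.centralizer (R2 : Set (alternatingGroup (Pts p m r))) →
      (∃ k : ℕ, orderOf y = p ^ k) → y ∈ R2 := fun y hy _ => mem_rotGroup_of_comm e1 hr1 fun g hg =>
    (congrArg Subtype.val (Subgroup.mem_centralizer_iff.mp hy ⟨g, hW1A (rotGroup_le_wr e1 W' hg)⟩ hg)).symm
  have hK1 : pgen (p := p) (m := m) (r := r) ≤ localPerm (U : Subgroup (alternatingGroup (Pts p m r))) R1 := by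
    rw [pgen, Subgroup.closure_le]
    rintro y ⟨hy, k, hk⟩
    refine ⟨⟨y, CfsgLib.AbelianSylowAlt.sign_eq_one_of_odd p hp2 hk⟩, Subgroup.subset_closure ?_, rfl⟩
    refine mem_conjGens_of_pow U (fun x hx => hnormA _ x (wr_le_normalizer W2 (hmemU.mp hx))) (hnormA _ _ hy)
      (k := k) (Subtype.ext hk)
  have hX : ∀ s, bl r e1 (shX s) ∈ localPerm (U : Subgroup (alternatingGroup (Pts p m r))) R2 := fun s => by
    have hmem : bl r e1 (shX s) ∈ W1 := bl_shX_mem_wr e1 W' s
    refine ⟨⟨_, hW1A hmem⟩, Subgroup.subset_closure ⟨1, one_mem _, _, (hmemU (x := ⟨_, hW1A hmem⟩)).mpr hmem, hnormA _ _ ?_, ?_⟩, rfl⟩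
    · exact bl_mem_normalizer e1 fun i x y => by simp only [shX_apply, Prod.fst_add, Prod.snd_add, Prod.mk_add_mk]; ext <;> ring
    · simp
  have hsignX : ∀ s, Perm.sign (bl r e1 (shX s)) = 1 := fun s => hW1A (bl_shX_mem_wr e1 W' s)
  have hsignY : ∀ s, Perm.sign (bl r e1 (shY s)) = 1 := fun s =>
    CfsgLib.AbelianSylowAlt.sign_eq_one_of_odd p hp2 (k := 1) (by rw [pow_one, ← map_pow, shY_pow, map_one])
  have hturn : Perm.sign (bl r e1 (turn p m')) = 1 := by
    rw [turn, map_mul, map_mul, map_mul, map_mul, hsignX, hsignY]; simp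
  have hY : ∀ s, bl r e1 (shY s) ∈ localPerm (U : Subgroup (alternatingGroup (Pts p m r))) R2 := fun s => by
    refine ⟨⟨_, hsignY s⟩, Subgroup.subset_closure
      ⟨⟨_, hturn⟩, hnormA _ _ ?_, ⟨_, hsignX (-s)⟩, (hmemU (x := ⟨_, hsignX (-s)⟩)).mpr (bl_shX_mem_wr e1 W' _), hnormA _ _ ?_, ?_⟩, rfl⟩
    · exact bl_mem_normalizer e1 fun i x y => by simp only [turn_apply, Prod.fst_add, Prod.snd_add, Prod.mk_add_mk]; ext <;> ring
    · exact bl_mem_normalizer e1 fun i x y => by simp only [shX_apply, Prod.fst_add, Prod.snd_add, Prod.mk_add_mk]; ext <;> ring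
    · exact Subtype.ext (by
        show bl r e1 (shY s) = bl r e1 (turn p m') * bl r e1 (shX (-s)) * (bl r e1 (turn p m'))⁻¹
        rw [← map_inv, ← map_mul, ← map_mul, ← shY_eq])
  intro g hg
  obtain ⟨π, u, v, hgv⟩ := exists_aff_of_normalizer (W := W2) (g := g.1) hr1 fun x hx =>
    hmemU.mp ((Subgroup.mem_normalizer_iff.mp hg ⟨x, hW1A hx⟩).mp (hmemU.mpr hx))
  obtain ⟨ci, πh, uh, hh, hhc, hhN⟩ := exists_dia (r := r) e1 P'.2 hm'0 (∏ i, u i)
  have hhK : bl r e1 (dia ci) ∈ localPerm (U : Subgroup (alternatingGroup (Pts p m r))) R2 := by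
    rw [dia, map_mul, map_mul, map_mul, turn, map_mul, map_mul]
    exact mul_mem (mul_mem (mul_mem (hX _) (hY _)) (hX _)) (mul_mem (mul_mem (hX _) (hY _)) (hX _))
  obtain ⟨h, hhcl, hhv⟩ := hhK
  change h.1 = _ at hhv
  have hhU : h ∈ Subgroup.normalizer ((U : Subgroup (alternatingGroup (Pts p m r))) : Set (alternatingGroup (Pts p m r))) := by
    rw [← hUU]; exact hnormA _ h (hhv ▸ hhN)
  have hgh : (g * h⁻¹).1 ∈ localPerm (U : Subgroup (alternatingGroup (Pts p m r))) R1 := by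
    refine hK1 ?_
    have hinv : h.1⁻¹ = aff p m r πh⁻¹ (fun i => (uh (πh⁻¹ i))⁻¹) 0 := by
      rw [hhv, hh]
      refine inv_eq_of_mul_eq_one_left ?_
      rw [aff_mul, inv_mul_cancel, ← aff_one (p := p) (m := m) (r := r)]
      congr 1 <;> funext i
      · rw [show πh⁻¹ (πh i) = i from πh.symm_apply_apply i, inv_mul_cancel]; rfl
      · simp only [Pi.zero_apply, mul_zero, add_zero]
    have hev : Perm.sign (g.1 * h.1⁻¹) = 1 := (g * h⁻¹).2
    show g.1 * h.1⁻¹ ∈ _
    rw [hgv, hinv, aff_mul, aff_split] at hev ⊢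
    have hsc := scale_mem_pgen (r := r) hp2 hpm (u := fun i => u (πh⁻¹ i) * (uh (πh⁻¹ i))⁻¹) (by
      rw [Finset.prod_mul_distrib, Equiv.prod_comp πh⁻¹ u, Equiv.prod_comp πh⁻¹ (fun i => (uh i)⁻¹),
        Finset.prod_inv_distrib, hhc, mul_inv_cancel])
    rw [map_mul, map_mul, hbs, pgen_sign hp2 hsc, mul_one, mul_one, ← liftHom_eq, sign_liftHom] at hev
    refine mul_mem (mul_mem (lift_mem_pgen hp2 hpm ?_) (base_mem_pgen _)) hsc
    rcases Int.units_eq_one_or (Perm.sign (π * πh⁻¹)) with h1 | h1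
    · exact h1
    · rw [h1, (hp.out.odd_of_ne_two hp2).neg_one_pow] at hev
      exact absurd hev (by decide)
  rw [show g = g * h⁻¹ * h by group]
  refine mul_mem (Subgroup.subset_closure ⟨mul_mem hg (inv_mem hhU), R1, hR1U, hC1, mem_closure_of_localPerm _ _ hgh⟩)
    (Subgroup.subset_closure ⟨hhU, R2, hR2U, hC2, hhcl⟩)

end CfsgLib.AltFusion
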